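import Groth.Agent.Pi1PBC.Henselian
import Groth.Agent.S0388
import Groth.Agent.S1297
import Mathlib.AlgebraicGeometry.Geometrically.Connected

/-!
# Henselian couples proper over a Noetherian ring
-/

universe u v w

set_option autoImplicit false
set_option backward.isDefEq.respectTransparency false
set_option linter.style.haveILetI false

open CategoryTheory Limits AlgebraicGeometry

namespace Groth.Pi1PBC

/-- Clopen bijections descend along closed surjections with connected fibres. -/
theorem clopenBij_descend {Y : Type u} {C : Type v} {W : Type w} [TopologicalSpace Y] [TopologicalSpace C]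
    [TopologicalSpace W] {π : Y → C} (hπ : Continuous π) (hcl : IsClosedMap π)
    (hs : Function.Surjective π) (hfib : ∀ c, _root_.IsPreconnected (π ⁻¹' {c})) {q : W → Y}
    (hq : Topology.IsEmbedding q) {W' : Type u} [TopologicalSpace W'] {q' : W' → C}
    (hq' : Topology.IsEmbedding q') (hr : Set.range q = π ⁻¹' Set.range q')
    (h : HensPair.ClopenBij q) : HensPair.ClopenBij q' := by
  intro V hV
  have hmem : ∀ w, π (q w) ∈ Set.range q' := fun w => by
    have : q w ∈ π ⁻¹' Set.range q' := hr ▸ ⟨w, rfl⟩
    exact this
  choose t ht using hmem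
  have htc : Continuous t := hq'.isInducing.continuous_iff.2 <| by
    rw [show q' ∘ t = π ∘ q from funext ht]
    exact hπ.comp hq.continuous
  obtain ⟨U, ⟨hU, hUV⟩, huniq⟩ := h (t ⁻¹' V) (hV.preimage htc)
  have hsat : π ⁻¹' (π '' U) = U := by
    refine Set.Subset.antisymm ?_ (Set.subset_preimage_image _ _)
    rintro a ⟨b, hb, hab⟩
    exact (hfib (π b)).subset_isClopen hU ⟨b, rfl, hb⟩ (show π a ∈ ({π b} : Set C) from hab.symm)
  have hclopen : IsClopen (π '' U) := by
    refine ⟨hcl _ hU.1, ?_⟩
    rw [← isClosed_compl_iff]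
    have e : (π '' U)ᶜ = π '' Uᶜ := by
      refine Set.Subset.antisymm (fun c hc => ?_) ?_
      · obtain ⟨a, rfl⟩ := hs c
        exact ⟨a, fun ha => hc ⟨a, ha, rfl⟩, rfl⟩
      · rintro c ⟨a, ha, rfl⟩ hc
        exact ha (hsat.subset hc)
    rw [e]
    exact hcl _ hU.compl.1
  refine ⟨π '' U, ⟨hclopen, ?_⟩, fun U' hU' => ?_⟩
  · ext v
    obtain ⟨a, ha⟩ := hs (q' v)
    obtain ⟨w, rfl⟩ : a ∈ Set.range q := hr ▸ (show π a ∈ Set.range q' from ⟨v, ha.symm⟩)
    have hv : t w = v := hq'.injective (by rw [ht, ha])
    constructor
    · intro hmem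
      have h1 : q w ∈ U := hsat.subset (show π (q w) ∈ π '' U by rw [ha]; exact hmem)
      have h2 : w ∈ t ⁻¹' V := hUV.subset h1
      rw [← hv]; exact h2
    · intro hv'
      have h1 : q w ∈ U := hUV.symm.subset (show w ∈ t ⁻¹' V by rw [Set.mem_preimage, hv]; exact hv')
      exact ⟨q w, h1, ha⟩
  · have h1 := huniq (π ⁻¹' U') ⟨hU'.1.preimage hπ, by
      rw [← hU'.2]; ext w; simp [ht]⟩
    rw [← h1, Set.image_preimage_eq _ hs]

theorem range_specMap_mk {A : Type u} [CommRing A] (I : Ideal A) :
    Set.range (Spec.map (CommRingCat.ofHom (Ideal.Quotient.mk I))).base =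
      PrimeSpectrum.zeroLocus (I : Set A) := by
  refine (range_comap_of_surjective _ _ (Ideal.Quotient.mk_surjective (I := I))).trans ?_
  rw [Ideal.mk_ker]

set_option maxHeartbeats 1000000 in
/-- Finite schemes over a henselian couple proper over a Noetherian ring. -/
theorem isEquivalence_couple (hC : CompleteCase.{u}) {A : Type u} [CommRing A] [IsNoetherianRing A]
    (I : Ideal A) {X : Scheme.{u}} (f : X ⟶ Spec (CommRingCat.of A)) [IsProper f]
    (hX : ∀ (Y : Scheme.{u}) (y : Y ⟶ X), IsFinite y →
      HensPair.ClopenBij
        (pullback.fst y (pullback.fst f (Spec.map (CommRingCat.ofHom (Ideal.Quotient.mk I))))).base)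
    {X' : Scheme.{u}} (g : X' ⟶ X) [IsFinite g] :
    (FEt.restrict (pullback.fst g (pullback.fst f
      (Spec.map (CommRingCat.ofHom (Ideal.Quotient.mk I)))))).IsEquivalence := by
  let i := Spec.map (CommRingCat.ofHom (Ideal.Quotient.mk I))
  haveI : IsClosedImmersion i := IsClosedImmersion.spec_of_surjective _ Ideal.Quotient.mk_surjective
  haveI : IsClosedImmersion (pullback.fst f i) := MorphismProperty.pullback_fst _ _ inferInstance
  haveI : IsLocallyNoetherian (Spec (CommRingCat.of A)) := inferInstance
  let F := g ≫ f
  haveI : IsFinite F.fromNormalization := Groth.Agent.S1297.result F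
  haveI : IsAffine F.normalization := isAffine_of_isAffineHom F.fromNormalization
  -- the Stein factor as the spectrum of a finite algebra
  let B : CommRingCat.{u} := Γ(F.normalization, ⊤)
  let eN := F.normalization.isoSpec
  obtain ⟨ψ, hψ⟩ := Spec.map_surjective (eN.inv ≫ F.fromNormalization)
  letI : Algebra A B := ψ.hom.toAlgebra
  have hψfin : Module.Finite A B := by
    have h1 : IsFinite (Spec.map ψ) := by rw [hψ]; infer_instance
    exact RingHom.finite_algebraMap.1 ((IsFinite.SpecMap_iff ψ).1 h1)
  let ν : X' ⟶ Spec B := F.toNormalization ≫ eN.hom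
  have hνψ : ν ≫ Spec.map ψ = F := by
    rw [hψ, Category.assoc, eN.hom_inv_id_assoc, F.toNormalization_fromNormalization]
  haveI : IsProper (ν ≫ Spec.map ψ) := by rw [hνψ]; infer_instance
  haveI : IsProper ν := IsProper.of_comp ν (Spec.map ψ)
  haveI : GeometricallyConnected ν := by
    haveI := (Groth.Agent.S0388.result F).1
    exact (MorphismProperty.cancel_right_of_respectsIso @GeometricallyConnected F.toNormalization eN.hom).2
      inferInstance
  let J : Ideal B := I.map (algebraMap A B)
  -- the pair `(B, J)` is henselian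
  haveI : HenselianRing B J := by
    refine Groth.Hensel1.henselianRing_of_bijOn_idempotents fun C _ _ _ => ?_
    letI : Algebra A C := ((algebraMap B C).comp (algebraMap A B)).toAlgebra
    let c : Spec (CommRingCat.of C) ⟶ Spec B := Spec.map (CommRingCat.ofHom (algebraMap B C))
    haveI : IsFinite c := (IsFinite.SpecMap_iff _).2 (RingHom.finite_algebraMap.2 inferInstance)
    let π := pullback.snd ν c
    haveI : GeometricallyConnected π := inferInstance
    haveI : IsProper π := MorphismProperty.pullback_snd _ _ ‹IsProper ν›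
    let y : pullback ν c ⟶ X := pullback.fst ν c ≫ g
    haveI : IsFinite (pullback.fst ν c) := MorphismProperty.pullback_fst _ _ inferInstance
    have hy := hX _ y inferInstance
    let gC : Spec (CommRingCat.of C) ⟶ Spec (CommRingCat.of A) :=
      (Iso.refl _).hom ≫ Spec.map (CommRingCat.ofHom (algebraMap A C))
    haveI : IsClosedImmersion (pullback.fst gC i) := MorphismProperty.pullback_fst _ _ inferInstance
    haveI : IsClosedImmersion (pullback.fst y (pullback.fst f i)) :=
      MorphismProperty.pullback_fst _ _ inferInstance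
    have hgC : gC = c ≫ Spec.map ψ := by
      rw [show gC = Spec.map (CommRingCat.ofHom (algebraMap A C)) from Category.id_comp _, ← Spec.map_comp]
      rfl
    have hπC : π ≫ gC = y ≫ f := by
      rw [hgC, ← pullback.condition_assoc, hνψ, Category.assoc]
    have h := clopenBij_descend π.continuous π.isClosedMap π.surjective
      (fun z => (π.isConnected_preimage_singleton z).isPreconnected)
      (pullback.fst y (pullback.fst f i)).isClosedEmbedding.isEmbedding
      (pullback.fst gC i).isClosedEmbedding.isEmbedding ?_ hy
    · rw [Groth.HensPair.clopenBij_pullback_fst_iff (A := A) (B := C) I gC (Iso.refl _) rfl] at h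
      rw [show J.map (algebraMap B C) = I.map (algebraMap A C) from Ideal.map_map _ _]
      exact h
    · erw [Scheme.Pullback.range_fst, Scheme.Pullback.range_fst, Scheme.Pullback.range_fst]
      rw [← Set.preimage_comp, ← Set.preimage_comp]
      ext z
      have e := congrArg (fun φ => φ.base z) hπC
      simp only [Scheme.Hom.comp_apply] at e
      simp only [Set.mem_preimage, Function.comp_apply, e]
  -- compare the two closed fibres
  haveI := isEquivalence_henselian hC J (f := ν)
  let qB := Spec.map (CommRingCat.ofHom (Ideal.Quotient.mk J))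
  haveI : IsClosedImmersion qB := IsClosedImmersion.spec_of_surjective _ Ideal.Quotient.mk_surjective
  let jB := pullback.fst ν qB
  haveI : IsClosedImmersion jB := MorphismProperty.pullback_fst _ _ inferInstance
  let j := pullback.fst g (pullback.fst f i)
  haveI : IsClosedImmersion j := MorphismProperty.pullback_fst _ _ inferInstance
  let ρ : CommRingCat.of (A ⧸ I) ⟶ CommRingCat.of (B ⧸ J) :=
    CommRingCat.ofHom (Ideal.quotientMap J (algebraMap A B) Ideal.le_comap_map)
  have hρ : qB ≫ Spec.map ψ = Spec.map ρ ≫ i := by
    rw [← Spec.map_comp, ← Spec.map_comp]; rfl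
  let l : pullback ν qB ⟶ pullback g (pullback.fst f i) :=
    pullback.lift jB (pullback.lift (jB ≫ g) (pullback.snd ν qB ≫ Spec.map ρ) (by
      rw [Category.assoc, Category.assoc, ← hρ, ← pullback.condition_assoc, hνψ]))
      (pullback.lift_fst _ _ _).symm
  have hl : l ≫ j = jB := pullback.lift_fst _ _ _
  haveI : IsClosedImmersion (l ≫ j) := by rw [hl]; infer_instance
  haveI : IsClosedImmersion l := IsClosedImmersion.of_comp l j
  have hrange : Set.range j.base = Set.range jB.base := by
    erw [Scheme.Pullback.range_fst, Scheme.Pullback.range_fst, Scheme.Pullback.range_fst,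
      range_specMap_mk, range_specMap_mk]
    rw [← Set.preimage_comp, ← PrimeSpectrum.zeroLocus_span (I.map (algebraMap A B) : Set B)]
    ext x
    have e := congrArg (fun φ => φ.base x) hνψ
    simp only [Scheme.Hom.comp_apply, F] at e
    simp only [Set.mem_preimage, Function.comp_apply, ← e, Ideal.span_eq]
    exact Ideal.map_le_iff_le_comap.symm
  haveI : Surjective l := ⟨fun z => by
    obtain ⟨w, hw⟩ : j z ∈ Set.range jB.base := hrange ▸ ⟨z, rfl⟩
    exact ⟨w, j.isClosedEmbedding.injective (by rw [← Scheme.Hom.comp_apply, hl]; exact hw)⟩⟩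
  haveI : (FEt.restrict l).IsEquivalence := Groth.Agent.S0289.result l
  haveI : (FEt.restrict j ⋙ FEt.restrict l).IsEquivalence :=
    Functor.isEquivalence_of_iso ((Pi1FEt.restrictCompIso l j).symm ≪≫ Pi1FEt.restrictCongr hl).symm
  exact Functor.isEquivalence_of_comp_right _ (FEt.restrict l)

end Groth.Pi1PBC
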