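import Groth.Agent.Pi1PBC.Basic
import Groth.Agent.S0289
import Groth.Agent.S0543
import Groth.Agent.S0600
import Groth.Agent.Calg1.Popescu.Popescu
import Groth.Agent.Hensel1.SmoothLift
import Groth.Agent.Hensel1.Pairs
import Groth.Agent.AdicLinTop.CompletionQuot

/-!
# Finite etale covers over henselian pairs: the approximation argument
-/

universe u

set_option autoImplicit false
set_option backward.isDefEq.respectTransparency false
set_option linter.style.haveILetI false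

open CategoryTheory Limits AlgebraicGeometry
open scoped TensorProduct

namespace Groth.Pi1PBC

/-- Finite etale covers of proper schemes over complete Noetherian rings come from the closed fibre. -/
def CompleteCase : Prop :=
  ∀ (A : Type u) [CommRing A] [IsNoetherianRing A] (I : Ideal A) [IsAdicComplete I A] {X : Scheme.{u}}
    (f : X ⟶ Spec (CommRingCat.of A)) [IsProper f],
    (FEt.restrict (pullback.fst f (Spec.map (CommRingCat.ofHom (Ideal.Quotient.mk I))))).EssSurj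

section Calculus

variable {X : Scheme.{u}} {R A B C : CommRingCat.{u}} (f : X ⟶ Spec R)

theorem pbMap_pbMap (φ : R ⟶ A) (ψ : R ⟶ B) (θ : R ⟶ C) (χ : A ⟶ B) (h : φ ≫ χ = ψ) (χ' : B ⟶ C)
    (h' : ψ ≫ χ' = θ) (χ'' : A ⟶ C) (h'' : φ ≫ χ'' = θ) (e : χ ≫ χ' = χ'') :
    pbMap f ψ θ χ' h' ≫ pbMap f φ ψ χ h = pbMap f φ θ χ'' h'' := by
  subst e
  refine pullback.hom_ext ?_ ?_
  · simp
  · simp [Spec.map_comp]

/-- Restriction along base change maps composes. -/
noncomputable def resComp (φ : R ⟶ A) (ψ : R ⟶ B) (θ : R ⟶ C) (χ : A ⟶ B) (h : φ ≫ χ = ψ) (χ' : B ⟶ C)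
    (h' : ψ ≫ χ' = θ) (χ'' : A ⟶ C) (h'' : φ ≫ χ'' = θ) (e : χ ≫ χ' = χ'') :
    FEt.restrict (pbMap f φ ψ χ h) ⋙ FEt.restrict (pbMap f ψ θ χ' h') ≅
      FEt.restrict (pbMap f φ θ χ'' h'') :=
  (Pi1FEt.restrictCompIso _ _).symm ≪≫ Pi1FEt.restrictCongr (pbMap_pbMap f φ ψ θ χ h χ' h' χ'' h'' e)

theorem isIso_pbMap (φ : R ⟶ A) (ψ : R ⟶ B) (χ : A ⟶ B) [IsIso χ] (h : φ ≫ χ = ψ) :
    IsIso (pbMap f φ ψ χ h) := by
  have h' : ψ ≫ inv χ = φ := by rw [← h, Category.assoc, IsIso.hom_inv_id, Category.comp_id]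
  refine ⟨pbMap f ψ φ (inv χ) h', ?_, ?_⟩
  · exact pullback.hom_ext (by simp) (by simp)
  · exact pullback.hom_ext (by simp) (by simp)

/-- Iterated base change is base change. -/
theorem essSurj_pbMap (φ : R ⟶ A) (ψ : R ⟶ B) (χ : A ⟶ B) (h : φ ≫ χ = ψ)
    [(FEt.restrict (pullback.fst (pullback.snd f (Spec.map φ)) (Spec.map χ))).EssSurj] :
    (FEt.restrict (pbMap f φ ψ χ h)).EssSurj := by
  let e : pullback f (Spec.map ψ) ⟶ pullback (pullback.snd f (Spec.map φ)) (Spec.map χ) :=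
    pullback.lift (pbMap f φ ψ χ h) (pullback.snd _ _) (pbMap_snd f φ ψ χ h)
  haveI : IsIso e := by
    refine ⟨pullback.lift (pullback.fst _ _ ≫ pullback.fst _ _) (pullback.snd _ _) ?_, ?_, ?_⟩
    · rw [Category.assoc, pullback.condition, pullback.condition_assoc, ← h, Spec.map_comp]
    · exact pullback.hom_ext (by simp [e]) (by simp [e])
    · refine pullback.hom_ext (pullback.hom_ext ?_ ?_) ?_
      · simp [e]
      · simp [e, pullback.condition]
      · simp [e]
  haveI : (FEt.restrict e).IsEquivalence := Groth.Agent.S0289.result e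
  exact Functor.essSurj_of_iso ((Pi1FEt.restrictCompIso e _).symm ≪≫
    Pi1FEt.restrictCongr (show e ≫ pullback.fst (pullback.snd f (Spec.map φ)) (Spec.map χ) = pbMap f φ ψ χ h
      from pullback.lift_fst _ _ _))

/-- The complete case, along a surjection with given kernel. -/
theorem essSurj_of_complete (hC : CompleteCase.{u}) [IsProper f] [IsNoetherianRing A] (J : Ideal A)
    [IsAdicComplete J A] (φ : R ⟶ A) (ψ : R ⟶ B) (ε : A ⟶ B) (h : φ ≫ ε = ψ)
    (hε : Function.Surjective ε) (hker : RingHom.ker ε.hom = J) :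
    (FEt.restrict (pbMap f φ ψ ε h)).EssSurj := by
  let q : A ⟶ CommRingCat.of (A ⧸ J) := CommRingCat.ofHom (Ideal.Quotient.mk J)
  let e : CommRingCat.of (A ⧸ J) ≅ B :=
    ((Ideal.quotEquivOfEq hker.symm).trans (RingHom.quotientKerEquivOfSurjective hε)).toCommRingCatIso
  have he : q ≫ e.hom = ε := by
    ext x
    exact RingHom.kerLift_mk ε.hom x
  haveI : IsProper (pullback.snd f (Spec.map φ)) := MorphismProperty.pullback_snd _ _ ‹IsProper f›
  haveI : (FEt.restrict (pullback.fst (pullback.snd f (Spec.map φ)) (Spec.map q))).EssSurj :=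
    hC A J (X := pullback f (Spec.map φ)) (pullback.snd f (Spec.map φ))
  haveI := essSurj_pbMap f φ (φ ≫ q) q rfl
  have h2 : (φ ≫ q) ≫ e.hom = ψ := by rw [Category.assoc, he, h]
  haveI := isIso_pbMap f (φ ≫ q) ψ e.hom h2
  haveI : (FEt.restrict (pbMap f (φ ≫ q) ψ e.hom h2)).IsEquivalence := Groth.Agent.S0289.result _
  exact Functor.essSurj_of_iso (resComp f φ (φ ≫ q) ψ q rfl e.hom h2 ε h he)

end Calculus

/-- Covers over the quotient of a G-ring lift to a henselian pair. -/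
theorem exists_lift_of_isGRing (hC : CompleteCase.{u}) {P : Scheme.{u}} {R₀ R A : CommRingCat.{u}}
    (h : P ⟶ Spec R₀) [IsProper h] (hR : CAlg.IsGRing R) (J : Ideal R) (I : Ideal A) [HenselianRing A I]
    (φ : R₀ ⟶ R) (ev : R ⟶ A) (φA : R₀ ⟶ A) (hev : φ ≫ ev = φA) (hJ : J ≤ I.comap ev.hom)
    (ψJ : R₀ ⟶ CommRingCat.of (R ⧸ J)) (hψJ : φ ≫ CommRingCat.ofHom (Ideal.Quotient.mk J) = ψJ)
    (ψI : R₀ ⟶ CommRingCat.of (A ⧸ I)) (hψI : φA ≫ CommRingCat.ofHom (Ideal.Quotient.mk I) = ψI)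
    (hρ : ψJ ≫ CommRingCat.ofHom (Ideal.quotientMap I ev.hom hJ) = ψI)
    (V₀ : FEt.Cat (pullback h (Spec.map ψJ))) :
    ∃ V : FEt.Cat (pullback h (Spec.map φA)),
      Nonempty ((FEt.restrict (pbMap h φA ψI _ hψI)).obj V ≅
        (FEt.restrict (pbMap h ψJ ψI _ hρ)).obj V₀) := by
  haveI : IsNoetherianRing R := hR.1
  haveI : CompactSpace P := QuasiCompact.compactSpace_of_compactSpace h
  haveI : QuasiSeparatedSpace P := quasiSeparatedSpace_of_quasiSeparated h
  have hfg : J.FG := IsNoetherian.noetherian J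
  let C : CommRingCat.{u} := CommRingCat.of (AdicCompletion J R)
  haveI : IsNoetherianRing C := Groth.Agent.S0543.result R J
  let J' : Ideal C := J.map (algebraMap R (AdicCompletion J R))
  haveI : IsAdicComplete J' C := Groth.AdicLinTop.CompletionQuot.isAdicComplete_map J hfg
  let ι : R ⟶ C := CommRingCat.ofHom (algebraMap R (AdicCompletion J R))
  let ε : C ⟶ CommRingCat.of (R ⧸ J) := CommRingCat.ofHom
    ((Ideal.quotEquivOfEq (pow_one J)).toRingHom.comp (AdicCompletion.evalₐ J 1).toRingHom)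
  have hιε : ι ≫ ε = CommRingCat.ofHom (Ideal.Quotient.mk J) := by
    ext r
    change Ideal.quotEquivOfEq (pow_one J) (AdicCompletion.evalₐ J 1 (algebraMap R _ r)) = _
    rw [Groth.AdicLinTop.CompletionQuot.evalₐ_algebraMap J 1 r]
    rfl
  have hεs : Function.Surjective ε := fun x => by
    obtain ⟨r, rfl⟩ := Ideal.Quotient.mk_surjective x
    exact ⟨ι r, congr($hιε r)⟩
  have hεk : RingHom.ker ε.hom = J' := by
    change RingHom.ker ((Ideal.quotEquivOfEq (pow_one J)).toRingHom.comp (AdicCompletion.evalₐ J 1).toRingHom) = J'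
    rw [RingHom.ker_equiv_comp, Groth.AdicLinTop.CompletionQuot.ker_evalₐ J hfg 1, pow_one]
  let φC : R₀ ⟶ C := φ ≫ ι
  have hφC : φC ≫ ε = ψJ := by rw [Category.assoc, hιε, hψJ]
  haveI := essSurj_of_complete h hC J' φC ψJ ε hφC hεs hεk
  let VC := (FEt.restrict (pbMap h φC ψJ ε hφC)).objPreimage V₀
  let eC : (FEt.restrict (pbMap h φC ψJ ε hφC)).obj VC ≅ V₀ := Functor.objObjPreimageIso _ _
  -- descend to a finitely generated subalgebra of the completion
  let g : pullback h (Spec.map φ) ⟶ Spec R := pullback.snd h (Spec.map φ)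
  haveI : IsProper g := MorphismProperty.pullback_snd _ _ ‹IsProper h›
  haveI : CompactSpace ↥(pullback h (Spec.map φ)) := QuasiCompact.compactSpace_of_compactSpace g
  haveI : QuasiSeparatedSpace ↥(pullback h (Spec.map φ)) := quasiSeparatedSpace_of_quasiSeparated g
  let l : pullback g (Spec.map ι) ⟶ pullback h (Spec.map φC) :=
    pullback.lift (pullback.fst _ _ ≫ pullback.fst _ _) (pullback.snd _ _) (by
      rw [Category.assoc, pullback.condition, pullback.condition_assoc, Spec.map_comp])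
  obtain ⟨B, ψ, χ, hχ, hψ, -, VB, ⟨eB⟩⟩ := exists_descend g ι ((FEt.restrict l).obj VC)
  -- factor through a smooth algebra
  letI : Algebra R B := ψ.hom.toAlgebra
  haveI : Algebra.FiniteType R B := hψ
  haveI : Algebra.FinitePresentation R B := Algebra.FinitePresentation.of_finiteType.mp inferInstance
  let χ' : B →ₐ[R] AdicCompletion J R :=
    { χ.hom with commutes' := fun r => congr($hχ r) }
  obtain ⟨T, _, _, hT, a, b, hab⟩ :=
    Groth.Calg1.Popescu.indSmooth_of_regularHom (Groth.Agent.S0600.result R hR J) B inferInstance χ'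
  -- lift the point of the smooth algebra
  letI : Algebra R A := ev.hom.toAlgebra
  let ρ : (R ⧸ J) →+* A ⧸ I := Ideal.quotientMap I ev.hom hJ
  let σ : T →ₐ[R] A ⧸ I :=
    { ρ.comp (ε.hom.comp b.toRingHom) with
      commutes' := fun r => by
        change ρ (ε (b (algebraMap R T r))) = _
        rw [b.commutes]
        exact congrArg ρ (congr($hιε r)) }
  let σA : A ⊗[R] T →ₐ[A] A ⧸ I :=
    Algebra.TensorProduct.lift (Ideal.Quotient.mkₐ A I) σ fun _ _ => Commute.all _ _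
  obtain ⟨s, hs⟩ := Groth.Hensel1.exists_smooth_lift (T := A ⊗[R] T)
    (Groth.Hensel1.henselianRing_iff_gabber.1 ‹HenselianRing A I›) σA
  let t : B ⟶ A := CommRingCat.ofHom
    ((s.toRingHom.comp (Algebra.TensorProduct.includeRight : T →ₐ[R] A ⊗[R] T).toRingHom).comp a.toRingHom)
  have hψt : ψ ≫ t = ev := by
    ext r
    change s (1 ⊗ₜ a (algebraMap R B r)) = algebraMap R A r
    rw [a.commutes, Algebra.algebraMap_eq_smul_one r (A := T), TensorProduct.tmul_smul,
      ← Algebra.TensorProduct.one_def, s.map_smul_of_tower, map_one, ← Algebra.algebraMap_eq_smul_one]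
  have htI : t ≫ CommRingCat.ofHom (Ideal.Quotient.mk I) = (χ ≫ ε) ≫ CommRingCat.ofHom ρ := by
    ext x
    change Ideal.Quotient.mk I (s (1 ⊗ₜ a x)) = ρ (ε (χ x))
    have h1 : Ideal.Quotient.mk I (s (1 ⊗ₜ a x)) = σA (1 ⊗ₜ a x) := AlgHom.congr_fun hs (1 ⊗ₜ a x)
    rw [h1, Algebra.TensorProduct.lift_tmul, map_one, one_mul]
    exact congrArg (fun z => ρ (ε z)) (AlgHom.congr_fun hab x)
  -- transport everything
  let φB : R₀ ⟶ B := φ ≫ ψ
  let e₂ : pullback h (Spec.map φB) ⟶ pullback g (Spec.map ψ) :=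
    pullback.lift (pbMap h φ φB ψ rfl) (pullback.snd _ _) (pbMap_snd h φ φB ψ rfl)
  let W := (FEt.restrict e₂).obj VB
  have hBA : φB ≫ t = φA := by rw [Category.assoc, hψt, hev]
  have hBI : φB ≫ (χ ≫ ε) ≫ CommRingCat.ofHom ρ = ψI := by
    rw [← htI, ← Category.assoc φB, hBA, hψI]
  have hBJ : φB ≫ χ ≫ ε = ψJ := by
    simp only [φB, Category.assoc]
    rw [reassoc_of% hχ, hιε, hψJ]
  -- the restriction of `W` to the closed fibre
  let m : pullback h (Spec.map φC) ⟶ pullback g (Spec.map ι) :=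
    pullback.lift (pbMap h φ φC ι rfl) (pullback.snd _ _) (pbMap_snd h φ φC ι rfl)
  have hml : m ≫ l = 𝟙 _ := pullback.hom_ext (by simp [m, l]) (by simp [m, l])
  have hsq : pbMap h φB φC χ (by simp only [φB, φC, Category.assoc, hχ]) ≫ e₂ = m ≫ pbMap g ψ ι χ hχ := by
    refine pullback.hom_ext (pullback.hom_ext ?_ ?_) ?_
    · simp [e₂, m]
    · simp [e₂, m, g, ← Spec.map_comp, hχ]
    · simp [e₂, m]
  let eW : (FEt.restrict (pbMap h φB φC χ (by simp only [φB, φC, Category.assoc, hχ]))).obj W ≅ VC :=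
    (Pi1FEt.restrictCompIso _ e₂).symm.app VB ≪≫ (Pi1FEt.restrictCongr hsq).app VB ≪≫
    (Pi1FEt.restrictCompIso m _).app VB ≪≫ (FEt.restrict m).mapIso eB ≪≫
    (Pi1FEt.restrictCompIso m l).symm.app VC ≪≫ (Pi1FEt.restrictCongr hml).app VC ≪≫
    (Pi1FEt.restrictIdIso _).app VC
  refine ⟨(FEt.restrict (pbMap h φB φA t hBA)).obj W, ⟨?_⟩⟩
  exact (resComp h φB φA ψI t hBA _ hψI ((χ ≫ ε) ≫ CommRingCat.ofHom ρ) hBI htI).app W ≪≫
    (resComp h φB ψJ ψI (χ ≫ ε) hBJ _ hρ ((χ ≫ ε) ≫ CommRingCat.ofHom ρ) hBI rfl).symm.app W ≪≫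
    (FEt.restrict (pbMap h ψJ ψI _ hρ)).mapIso
      ((resComp h φB φC ψJ χ (by simp only [φB, φC, Category.assoc, hχ]) ε hφC (χ ≫ ε) hBJ rfl).symm.app W ≪≫
        (FEt.restrict (pbMap h φC ψJ ε hφC)).mapIso eW ≪≫ eC)

end Groth.Pi1PBC
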