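import Groth.Agent.Pi1PBC.Approx
import Groth.Agent.Limits.ProperFibreModel
import Groth.Agent.Limits.ProperApprox
import Groth.Agent.SpectralTopology.NoethSystem
import Groth.Agent.Ega4Algebra1.GRingDescent
import Groth.Agent.Ega4Algebra1.DedekindExcellent

/-!
# Proper base change for finite etale covers over henselian pairs, from the complete case
-/

universe u

set_option autoImplicit false
set_option backward.isDefEq.respectTransparency false
set_option backward.defeqAttrib.useBackward true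
set_option linter.style.haveILetI false

open CategoryTheory Limits AlgebraicGeometry

namespace Groth.Pi1PBC

theorem isGRing_of_finiteType_int (R : Type u) [CommRing R] [Algebra.FiniteType ℤ R] : CAlg.IsGRing R := by
  letI : Algebra (ULift.{u} ℤ) R := ((algebraMap ℤ R).comp ULift.ringEquiv.toRingHom).toAlgebra
  haveI : Algebra.FiniteType (ULift.{u} ℤ) R := by
    have h : ((algebraMap (ULift.{u} ℤ) R).comp ULift.ringEquiv.symm.toRingHom).FiniteType := by
      rw [Subsingleton.elim ((algebraMap (ULift.{u} ℤ) R).comp ULift.ringEquiv.symm.toRingHom) (algebraMap ℤ R)]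
      exact RingHom.finiteType_algebraMap.2 inferInstance
    exact RingHom.finiteType_algebraMap.1 (RingHom.FiniteType.of_comp_finiteType h)
  haveI : IsDedekindDomain (ULift.{u} ℤ) := by
    haveI : IsDomain (ULift.{u} ℤ) := ULift.ringEquiv.injective.isDomain ULift.ringEquiv.toRingHom
    haveI : IsPrincipalIdealRing (ULift.{u} ℤ) :=
      IsPrincipalIdealRing.of_surjective ULift.ringEquiv.symm.toRingHom ULift.ringEquiv.symm.surjective
    infer_instance
  haveI : CharZero (ULift.{u} ℤ) :=
    charZero_of_injective_ringHom (R := ℤ) (f := (ULift.ringEquiv.{0, u} (R := ℤ)).symm.toRingHom)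
      (ULift.ringEquiv.{0, u} (R := ℤ)).symm.injective
  exact Groth.Ega4Algebra1.isGRing_of_finiteType (ULift.{u} ℤ)
    (Groth.Ega4Algebra1.isExcellent_of_isDedekindDomain_charZero (ULift.{u} ℤ)).2.2.1 R

set_option maxHeartbeats 1000000 in
/-- A finitely generated subalgebra of a quotient comes from a finitely generated algebra. -/
theorem exists_onto {R₀ A B : CommRingCat.{u}} [Algebra.FiniteType ℤ R₀] (I : Ideal A) (φA : R₀ ⟶ A)
    (ψ : R₀ ⟶ B) (χ : B ⟶ CommRingCat.of (A ⧸ I))
    (hχ : ψ ≫ χ = φA ≫ CommRingCat.ofHom (Ideal.Quotient.mk I)) (hψ : ψ.hom.FiniteType)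
    (hχi : Function.Injective χ) :
    ∃ (R : CommRingCat.{u}) (φ : R₀ ⟶ R) (ev : R ⟶ A) (θ : B ⟶ CommRingCat.of (R ⧸ I.comap ev.hom)),
      CAlg.IsGRing R ∧ φ ≫ ev = φA ∧
      φ ≫ CommRingCat.ofHom (Ideal.Quotient.mk (I.comap ev.hom)) = ψ ≫ θ ∧
      θ ≫ CommRingCat.ofHom (Ideal.quotientMap I ev.hom le_rfl) = χ := by
  letI : Algebra R₀ B := ψ.hom.toAlgebra
  haveI : Algebra.FiniteType R₀ B := hψ
  obtain ⟨n, π, hπ⟩ := Algebra.FiniteType.iff_quotient_mvPolynomial''.1 ‹Algebra.FiniteType R₀ B›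
  choose g hg using fun j => Ideal.Quotient.mk_surjective (χ (π (MvPolynomial.X j)))
  let P := MvPolynomial (Fin n) R₀
  let ev₀ : P →+* A := MvPolynomial.eval₂Hom φA.hom g
  let R : CommRingCat.{u} := CommRingCat.of P
  let φ : R₀ ⟶ R := CommRingCat.ofHom MvPolynomial.C
  let ev : R ⟶ A := CommRingCat.ofHom ev₀
  have hev : φ ≫ ev = φA := by
    ext r
    exact MvPolynomial.eval₂Hom_C φA.hom g r
  have hχπ : (Ideal.Quotient.mk I).comp ev₀ = χ.hom.comp π.toRingHom := by
    refine MvPolynomial.ringHom_ext (fun r => ?_) fun j => ?_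
    · change Ideal.Quotient.mk I (MvPolynomial.eval₂Hom φA.hom g (MvPolynomial.C r)) = χ (π (MvPolynomial.C r))
      rw [MvPolynomial.eval₂Hom_C, ← MvPolynomial.algebraMap_eq, π.commutes]
      exact congr($hχ.symm r)
    · change Ideal.Quotient.mk I (MvPolynomial.eval₂Hom φA.hom g (MvPolynomial.X j)) = χ (π (MvPolynomial.X j))
      rw [MvPolynomial.eval₂Hom_X']
      exact hg j
  let J : Ideal P := I.comap ev₀
  have hker : RingHom.ker π.toRingHom = J := by
    ext x
    rw [RingHom.mem_ker, Ideal.mem_comap, ← Ideal.Quotient.eq_zero_iff_mem]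
    have h1 : Ideal.Quotient.mk I (ev₀ x) = χ (π x) := RingHom.congr_fun hχπ x
    constructor
    · intro hx
      exact h1.trans (by rw [show π x = 0 from hx, map_zero])
    · intro hx
      exact hχi (h1.symm.trans (hx.trans (map_zero _).symm))
  let θe : (B : Type u) ≃+* P ⧸ J :=
    ((Ideal.quotEquivOfEq hker.symm).trans
      (RingHom.quotientKerEquivOfSurjective (f := π.toRingHom) hπ)).symm
  have hθ : ∀ x : P, θe (π x) = Ideal.Quotient.mk J x := fun x => by
    refine (RingEquiv.symm_apply_eq _).2 ?_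
    exact (RingHom.kerLift_mk π.toRingHom x).symm
  haveI : Algebra.FiniteType ℤ P := Algebra.FiniteType.trans (R := ℤ) (S := R₀)
    (A := MvPolynomial (Fin n) R₀) inferInstance inferInstance
  refine ⟨R, φ, ev, CommRingCat.ofHom θe.toRingHom, isGRing_of_finiteType_int P, hev, ?_, ?_⟩
  · ext r
    change Ideal.Quotient.mk J (MvPolynomial.C r) = θe (ψ r)
    rw [← hθ, ← MvPolynomial.algebraMap_eq, π.commutes]
    rfl
  · ext b
    obtain ⟨x, rfl⟩ := hπ b
    change Ideal.quotientMap I ev₀ le_rfl (θe (π x)) = χ (π x)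
    rw [hθ, Ideal.quotientMap_mk]
    exact RingHom.congr_fun hχπ x

set_option maxHeartbeats 1000000 in
/-- The closed fibre of a scheme with a model over a finitely generated ring. -/
theorem essSurj_of_model (hC : CompleteCase.{u}) {R₀ A : CommRingCat.{u}} [Algebra.FiniteType ℤ R₀]
    (I : Ideal A) [HenselianRing A I] (φA : R₀ ⟶ A) {X P : Scheme.{u}} (f : X ⟶ Spec A) [IsProper f]
    (h : P ⟶ Spec R₀) [IsProper h] {m : X ⟶ P} (sq : IsPullback m f h (Spec.map φA)) :
    (FEt.restrict (pullback.fst f (Spec.map (CommRingCat.ofHom (Ideal.Quotient.mk I))))).EssSurj where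
  mem_essImage V₀ := by
    haveI : CompactSpace P := QuasiCompact.compactSpace_of_compactSpace h
    haveI : QuasiSeparatedSpace P := quasiSeparatedSpace_of_quasiSeparated h
    let qI : A ⟶ CommRingCat.of (A ⧸ I) := CommRingCat.ofHom (Ideal.Quotient.mk I)
    let ψI : R₀ ⟶ CommRingCat.of (A ⧸ I) := φA ≫ qI
    let e := sq.isoPullback
    let l : pullback f (Spec.map qI) ⟶ pullback h (Spec.map ψI) :=
      pullback.lift (pullback.fst _ _ ≫ m) (pullback.snd _ _) (by
        rw [Category.assoc, sq.w, pullback.condition_assoc, ← Spec.map_comp])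
    haveI : IsIso l := by
      have sq' : IsPullback (pullback.fst f (Spec.map qI) ≫ m) (pullback.snd f (Spec.map qI)) h
          (Spec.map ψI) := by
        rw [Spec.map_comp]; exact (IsPullback.of_hasPullback f (Spec.map qI)).paste_horiz sq
      rw [show l = sq'.isoPullback.hom from pullback.hom_ext (by simp [l]) (by simp [l])]
      infer_instance
    haveI : (FEt.restrict l).IsEquivalence := Groth.Agent.S0289.result l
    let W₀ := (FEt.restrict l).objPreimage V₀
    obtain ⟨B, ψ, χ, hχ, hψ, hχi, VB, ⟨eB⟩⟩ := exists_descend h ψI W₀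
    obtain ⟨R, φ, ev, θ, hR, hev, hψJ, hθρ⟩ := exists_onto I φA ψ χ hχ hψ hχi
    obtain ⟨V, ⟨eV⟩⟩ := exists_lift_of_isGRing hC h hR (I.comap ev.hom) I φ ev φA hev le_rfl
      (ψ ≫ θ) hψJ ψI rfl (by rw [Category.assoc, hθρ, hχ])
      ((FEt.restrict (pbMap h ψ (ψ ≫ θ) θ rfl)).obj VB)
    refine ⟨(FEt.restrict e.hom).obj V, ⟨?_⟩⟩
    have hel : pullback.fst f (Spec.map qI) ≫ e.hom = l ≫ pbMap h φA ψI qI rfl := by
      refine pullback.hom_ext ?_ ?_
      · simp [e, l]
      · simp only [e, Category.assoc, IsPullback.isoPullback_hom_snd, pbMap_snd]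
        rw [pullback.condition, show l ≫ pullback.snd h (Spec.map ψI) ≫ Spec.map qI =
          pullback.snd f (Spec.map qI) ≫ Spec.map qI from pullback.lift_snd_assoc _ _ _ _]
    exact (Pi1FEt.restrictCompIso _ e.hom).symm.app V ≪≫ (Pi1FEt.restrictCongr hel).app V ≪≫
      (Pi1FEt.restrictCompIso l _).app V ≪≫ (FEt.restrict l).mapIso (eV ≪≫
        (resComp h ψ (ψ ≫ θ) ψI θ rfl _ (by rw [Category.assoc, hθρ, hχ]) χ hχ hθρ).app VB ≪≫ eB) ≪≫
      (FEt.restrict l).objObjPreimageIso V₀

set_option maxHeartbeats 1000000 in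
/-- Proper schemes of finite presentation over henselian pairs. -/
theorem essSurj_henselian_fp (hC : CompleteCase.{u}) {A : Type u} [CommRing A] (I : Ideal A)
    [HenselianRing A I] {X : Scheme.{u}} (f : X ⟶ Spec (CommRingCat.of A)) [IsProper f]
    [LocallyOfFinitePresentation f] :
    (FEt.restrict (pullback.fst f (Spec.map (CommRingCat.ofHom (Ideal.Quotient.mk I))))).EssSurj := by
  let AA : CommRingCat.{u} := CommRingCat.of A
  haveI : ∀ i, IsAffine ((SpectralTopology.fgSchemes AA).obj i) := fun i =>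
    inferInstanceAs (IsAffine (Spec _))
  haveI : IsDirectedOrder (SpectralTopology.FGSub AA) :=
    ⟨fun s t => ⟨⟨s.1 ⊔ t.1, s.2.sup t.2⟩, (le_sup_left : s.1 ≤ s.1 ⊔ t.1),
      (le_sup_right : t.1 ≤ s.1 ⊔ t.1)⟩⟩
  haveI : Nonempty (SpectralTopology.FGSub AA) := ⟨⟨⊥, Subalgebra.fg_bot⟩⟩
  haveI : IsFiltered (SpectralTopology.FGSub AA) := isFiltered_of_directed_le_nonempty _
  haveI : IsCofiltered (SpectralTopology.FGSub AA)ᵒᵖ := isCofiltered_op_of_isFiltered _
  obtain ⟨i, N, hN⟩ := Groth.Limits.exists_proper_stageModel (SpectralTopology.isLimitFgCone AA) (Y := X) f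
  haveI : Algebra.FiniteType ℤ ((SpectralTopology.fgDiagram AA).obj i.unop) :=
    i.unop.1.fg_iff_finiteType.1 i.unop.2
  haveI : IsProper (N.hom : N.obj ⟶ Spec ((SpectralTopology.fgDiagram AA).obj i.unop)) := hN
  exact essSurj_of_model hC (R₀ := (SpectralTopology.fgDiagram AA).obj i.unop) (A := AA) I
    ((SpectralTopology.fgCocone AA).ι.app i.unop) f N.hom N.sq

/-- Proper schemes over henselian pairs: essential surjectivity. -/
theorem essSurj_henselian (hC : CompleteCase.{u}) {A : Type u} [CommRing A] (I : Ideal A)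
    [HenselianRing A I] {X : Scheme.{u}} (f : X ⟶ Spec (CommRingCat.of A)) [IsProper f] :
    (FEt.restrict (pullback.fst f (Spec.map (CommRingCat.ofHom (Ideal.Quotient.mk I))))).EssSurj where
  mem_essImage V₀ := by
    obtain ⟨S, hS₁, hS₂, hS₃⟩ := Groth.Limits.exists_properRelSystem f
    let b := Spec.map (CommRingCat.ofHom (Ideal.Quotient.mk I))
    haveI : IsClosedImmersion b := IsClosedImmersion.spec_of_surjective _ Ideal.Quotient.mk_surjective
    let G : Over (Spec (CommRingCat.of A)) ⥤ Scheme.{u} := Over.pullback b ⋙ Over.forget _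
    let D : S.Iᵒᵖ ⥤ Scheme.{u} := S.D ⋙ G
    let c : Cone D := G.mapCone S.cone
    haveI : IsConnected S.Iᵒᵖ := IsCofiltered.isConnected _
    have hc : IsLimit c := isLimitOfPreserves (Over.forget _) (isLimitOfPreserves (Over.pullback b) S.isLimit)
    haveI : ∀ i, CompactSpace ↥(D.obj i) := fun i => by
      haveI := hS₃ i
      haveI : CompactSpace ↥(S.D.obj i).left := S.compact i
      exact QuasiCompact.compactSpace_of_compactSpace (pullback.fst (S.D.obj i).hom b)
    haveI : ∀ i, QuasiSeparatedSpace ↥(D.obj i) := fun i => by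
      haveI := hS₃ i
      haveI : QuasiSeparatedSpace ↥(S.D.obj i).left := quasiSeparatedSpace_of_quasiSeparated (S.D.obj i).hom
      exact quasiSeparatedSpace_of_quasiSeparated (pullback.fst (S.D.obj i).hom b)
    haveI : ∀ (i j : S.Iᵒᵖ) (a : i ⟶ j), IsAffineHom (D.map a) := fun i j a => by
      haveI := hS₁ i j a
      have e : D.map a ≫ pullback.fst (S.D.obj j).hom b = pullback.fst (S.D.obj i).hom b ≫ (S.D.map a).left :=
        pullback.lift_fst _ _ _
      haveI : IsAffineHom (D.map a ≫ pullback.fst (S.D.obj j).hom b) := by rw [e]; infer_instance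
      exact IsAffineHom.of_comp (D.map a) (pullback.fst (S.D.obj j).hom b)
    obtain ⟨i, Vi, ⟨ei⟩⟩ := (Groth.Agent.S12073.result D c hc).1 V₀
    haveI := hS₃ i
    haveI := S.locallyOfFinitePresentation i
    haveI := essSurj_henselian_fp hC I (S.D.obj i).hom
    let Wi := (FEt.restrict (pullback.fst (S.D.obj i).hom b)).objPreimage Vi
    have hπ : pullback.fst f b ≫ (S.π.app i).left = c.π.app i ≫ pullback.fst (S.D.obj i).hom b :=
      (pullback.lift_fst _ _ _).symm
    exact ⟨(FEt.restrict (S.π.app i).left).obj Wi,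
      ⟨(Pi1FEt.restrictCompIso _ _).symm.app Wi ≪≫ (Pi1FEt.restrictCongr hπ).app Wi ≪≫
        (Pi1FEt.restrictCompIso _ _).app Wi ≪≫
        (FEt.restrict (c.π.app i)).mapIso ((FEt.restrict _).objObjPreimageIso Vi) ≪≫ ei⟩⟩

/-- Proper base change for finite etale covers over henselian pairs. -/
theorem isEquivalence_henselian (hC : CompleteCase.{u}) {A : Type u} [CommRing A] (I : Ideal A)
    [HenselianRing A I] {X : Scheme.{u}} (f : X ⟶ Spec (CommRingCat.of A)) [IsProper f] :
    (FEt.restrict (pullback.fst f (Spec.map (CommRingCat.ofHom (Ideal.Quotient.mk I))))).IsEquivalence :=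
  haveI := (fullyFaithful_henselian I f).1
  haveI := (fullyFaithful_henselian I f).2
  haveI := essSurj_henselian hC I f
  { }

end Groth.Pi1PBC
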