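import Groth.Agent.HensPair.ProperClopenCor
import Groth.Agent.VarietyBC.Components
import Groth.Agent.CohFin.ProjFinite
import Groth.Agent.Pi1FEt.FullClopen
import Groth.Agent.Pi1FEt.Colimits
import Groth.Agent.S12073
import Groth.Agent.SpectralTopology.AlgSystem
import Groth.Agent.Limits.DescentAffine
import Groth.Agent.Pi1Field.Limit

/-!
# Finite etale covers and change of base ring: basics
-/

universe u

set_option autoImplicit false
set_option backward.isDefEq.respectTransparency false
set_option backward.defeqAttrib.useBackward true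
set_option linter.style.haveILetI false

open CategoryTheory Limits AlgebraicGeometry TopologicalSpace

namespace Groth.Pi1PBC

/-- Restriction is fully faithful if clopens of covers correspond to clopens of their pullbacks. -/
theorem fullyFaithful_of_clopenBij {X Y : Scheme.{u}} (f : X ⟶ Y)
    (h : ∀ A : FEt.Cat Y, HensPair.ClopenBij (pullback.fst A.hom f).base) :
    (FEt.restrict f).Full ∧ (FEt.restrict f).Faithful := by
  have hinj : ∀ (A : FEt.Cat Y) (C : Set ↥A.left), IsClopen C →
      Set.range (pullback.fst A.hom f).base ⊆ C → C = Set.univ := fun A C hC hsub =>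
    (h A Set.univ isClopen_univ).unique ⟨hC, Set.eq_univ_of_forall fun z => hsub ⟨z, rfl⟩⟩
      ⟨isClopen_univ, rfl⟩
  exact ⟨Pi1FEt.restrict_full_of_clopen f hinj fun A C₀ hC₀ => (h A C₀ hC₀).exists,
    Pi1Etale.restrict_faithful_of_clopen f hinj⟩

/-- Proper schemes over henselian pairs: restriction to the closed fibre is fully faithful. -/
theorem fullyFaithful_henselian {A : Type u} [CommRing A] (I : Ideal A) [HenselianRing A I]
    {X : Scheme.{u}} (f : X ⟶ Spec (CommRingCat.of A)) [IsProper f] :
    (FEt.restrict (pullback.fst f (Spec.map (CommRingCat.ofHom (Ideal.Quotient.mk I))))).Full ∧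
    (FEt.restrict (pullback.fst f (Spec.map (CommRingCat.ofHom (Ideal.Quotient.mk I))))).Faithful := by
  refine fullyFaithful_of_clopenBij _ fun W => ?_
  haveI : IsFinite W.hom := W.prop.1
  haveI : IsClosedImmersion (Spec.map (CommRingCat.ofHom (Ideal.Quotient.mk I))) :=
    IsClosedImmersion.spec_of_surjective _ Ideal.Quotient.mk_surjective
  set i := pullback.fst f (Spec.map (CommRingCat.ofHom (Ideal.Quotient.mk I)))
  haveI : IsClosedImmersion i := MorphismProperty.pullback_fst _ _ inferInstance
  haveI : IsClosedImmersion (pullback.fst W.hom i) := MorphismProperty.pullback_fst _ _ inferInstance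
  refine HensPair.clopenBij_of_range CohFin.projFinite I (W.hom ≫ f)
    (pullback.fst W.hom i).isClosedEmbedding.isEmbedding ?_
  rw [show HensPair.overV (W.hom ≫ f) I = W.hom.base ⁻¹' HensPair.overV f I from rfl,
    ← HensPair.range_pullback_fst_mk I f]
  exact Scheme.Pullback.range_fst W.hom i

/-- Over a separably closed field, clopens do not change under extensions of the field. -/
theorem clopenBij_field {k K : Type u} [Field k] [IsSepClosed k] [Field K] [Algebra k K] {W : Scheme.{u}}
    (g : W ⟶ Spec (CommRingCat.of k)) :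
    HensPair.ClopenBij (pullback.fst g (Spec.map (CommRingCat.ofHom (algebraMap k K)))).base := by
  letI : W.Over (Spec (CommRingCat.of k)) := ⟨g⟩
  change HensPair.ClopenBij (Curv2.bcFst k W K)
  set p := Curv2.bcFst k W K
  have hq : Topology.IsQuotientMap p := VarietyBC.isQuotientMap_bcFst K
  intro V hV
  have hsat : p ⁻¹' (p '' V) = V := by
    refine Set.Subset.antisymm ?_ (Set.subset_preimage_image _ _)
    rintro a ⟨b, hb, hab⟩
    exact ((VarietyBC.isConnected_fibre (k := k) (X := W) (K := K) (p b)).isPreconnected.subset_isClopen hV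
      ⟨b, rfl, hb⟩) (show p a ∈ ({p b} : Set W) from hab.symm)
  refine ⟨p '' V, ⟨⟨?_, ?_⟩, hsat⟩, fun U hU => ?_⟩
  · rw [← hq.isClosed_preimage, hsat]; exact hV.1
  · rw [← hq.isOpen_preimage, hsat]; exact hV.2
  · rw [← hU.2, Set.image_preimage_eq _ hq.surjective]

/-- Over a separably closed field, restriction along an extension of the field is fully faithful. -/
theorem fullyFaithful_field {k K : Type u} [Field k] [IsSepClosed k] [Field K] [Algebra k K]
    {X : Scheme.{u}} (f : X ⟶ Spec (CommRingCat.of k)) :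
    (FEt.restrict (pullback.fst f (Spec.map (CommRingCat.ofHom (algebraMap k K))))).Full ∧
    (FEt.restrict (pullback.fst f (Spec.map (CommRingCat.ofHom (algebraMap k K))))).Faithful := by
  refine fullyFaithful_of_clopenBij _ fun W => ?_
  set b := Spec.map (CommRingCat.ofHom (algebraMap k K))
  let e := pullbackRightPullbackFstIso f b W.hom
  have he : e.hom ≫ pullback.fst (W.hom ≫ f) b = pullback.fst W.hom (pullback.fst f b) :=
    pullbackRightPullbackFstIso_hom_fst _ _ _
  intro V hV
  obtain ⟨U, ⟨hU, hUV⟩, huniq⟩ := clopenBij_field (K := K) (W.hom ≫ f) (e.inv.base ⁻¹' V)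
    (hV.preimage e.inv.continuous)
  have key : ∀ U' : Set ↥W.left, (pullback.fst W.hom (pullback.fst f b)).base ⁻¹' U' = V ↔
      (pullback.fst (W.hom ≫ f) b).base ⁻¹' U' = e.inv.base ⁻¹' V := by
    intro U'
    have h1 : (pullback.fst W.hom (pullback.fst f b)).base ⁻¹' U' =
        e.hom.base ⁻¹' ((pullback.fst (W.hom ≫ f) b).base ⁻¹' U') := by
      rw [← he]; rfl
    constructor
    · intro h
      rw [← h, h1]
      ext z
      simp [← Scheme.Hom.comp_apply]
    · intro h
      rw [h1, h]
      ext z
      simp [← Scheme.Hom.comp_apply]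
  exact ⟨U, ⟨hU, (key U).2 hUV⟩, fun U' hU' => huniq U' ⟨hU'.1, (key U').1 hU'.2⟩⟩

section Base

variable {X : Scheme.{u}} {R A B : CommRingCat.{u}} (f : X ⟶ Spec R)

/-- The map between base changes along compatible maps of rings. -/
noncomputable def pbMap (φ : R ⟶ A) (ψ : R ⟶ B) (χ : A ⟶ B) (h : φ ≫ χ = ψ) :
    pullback f (Spec.map ψ) ⟶ pullback f (Spec.map φ) :=
  pullback.lift (pullback.fst _ _) (pullback.snd _ _ ≫ Spec.map χ)
    (by rw [Category.assoc, ← Spec.map_comp, h]; exact pullback.condition)

@[reassoc (attr := simp)]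
theorem pbMap_fst (φ : R ⟶ A) (ψ : R ⟶ B) (χ : A ⟶ B) (h : φ ≫ χ = ψ) :
    pbMap f φ ψ χ h ≫ pullback.fst f (Spec.map φ) = pullback.fst f (Spec.map ψ) :=
  pullback.lift_fst _ _ _

@[reassoc (attr := simp)]
theorem pbMap_snd (φ : R ⟶ A) (ψ : R ⟶ B) (χ : A ⟶ B) (h : φ ≫ χ = ψ) :
    pbMap f φ ψ χ h ≫ pullback.snd f (Spec.map φ) = pullback.snd f (Spec.map ψ) ≫ Spec.map χ :=
  pullback.lift_snd _ _ _

/-- Finite etale covers descend to a finitely generated subalgebra. -/
theorem exists_descend [CompactSpace X] [QuasiSeparatedSpace X] (φ : R ⟶ A)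
    (V : FEt.Cat (pullback f (Spec.map φ))) :
    ∃ (B : CommRingCat.{u}) (ψ : R ⟶ B) (χ : B ⟶ A) (h : ψ ≫ χ = φ), ψ.hom.FiniteType ∧
      Function.Injective χ ∧ ∃ VB : FEt.Cat (pullback f (Spec.map ψ)),
        Nonempty ((FEt.restrict (pbMap f ψ φ χ h)).obj VB ≅ V) := by
  letI : Algebra R A := φ.hom.toAlgebra
  let D := SpectralTopology.algSchemes R A
  let t : D ⟶ (Functor.const _).obj (Spec R) :=
    { app := fun s => SpectralTopology.algToBase R A s
      naturality := fun _ _ m =>
        (SpectralTopology.algSchemes_map_toBase R A m).trans (Category.comp_id _).symm }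
  haveI : IsCofiltered (SpectralTopology.AlgSub R A)ᵒᵖ :=
    haveI : IsFiltered (SpectralTopology.AlgSub R A) := isFiltered_of_directed_le_nonempty _
    inferInstance
  have hφ : Spec.map (CommRingCat.ofHom (algebraMap R A)) = Spec.map φ := rfl
  have htop : ∀ s, (SpectralTopology.algCone R A).π.app s ≫ t.app s = Spec.map φ := fun s =>
    (SpectralTopology.algCone_π_toBase R A s).trans hφ
  let sys := Groth.Limits.bcDiagram t f
  let c : Cone sys := Groth.Limits.bcCone t f (SpectralTopology.algCone R A) (Spec.map φ) htop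
  have hc : IsLimit c := Groth.Limits.isLimitBcCone t f _ _ htop (SpectralTopology.isLimitAlgCone R A)
  haveI : ∀ (i j : (SpectralTopology.AlgSub R A)ᵒᵖ) (m : i ⟶ j), IsAffineHom (D.map m) := fun i j m =>
    SpectralTopology.isAffineHom_algSchemes R A i j m
  haveI : ∀ s, CompactSpace ↥(sys.obj s) := fun s => by
    haveI : IsAffineHom (t.app s) := inferInstanceAs (IsAffineHom (Spec.map _))
    haveI : QuasiCompact (pullback.fst f (t.app s)) := MorphismProperty.pullback_fst _ _ inferInstance
    exact QuasiCompact.compactSpace_of_compactSpace (pullback.fst f (t.app s))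
  haveI : ∀ s, QuasiSeparatedSpace ↥(sys.obj s) := fun s => by
    haveI : IsAffineHom (t.app s) := inferInstanceAs (IsAffineHom (Spec.map _))
    haveI : QuasiSeparated (pullback.fst f (t.app s)) := MorphismProperty.pullback_fst _ _ inferInstance
    exact quasiSeparatedSpace_of_quasiSeparated (pullback.fst f (t.app s))
  obtain ⟨s, Vs, ⟨e⟩⟩ := (Groth.Agent.S12073.result sys c hc).1 V
  refine ⟨CommRingCat.of s.unop.1, CommRingCat.ofHom (algebraMap R s.unop.1),
    CommRingCat.ofHom (S := (A : Type u)) s.unop.1.val.toRingHom, rfl, ?_, Subtype.val_injective, ?_⟩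
  · have : Algebra.FiniteType R s.unop.1 := (Subalgebra.fg_iff_finiteType _).1 s.unop.2
    exact RingHom.finiteType_algebraMap.2 this
  · refine ⟨Vs, ⟨(Groth.Pi1FEt.restrictCongr ?_).app Vs ≪≫ e⟩⟩
    refine pullback.hom_ext ?_ ?_
    · simp [pbMap, c, Groth.Limits.bcCone, t, SpectralTopology.algToBase]
    · simp [pbMap, c, Groth.Limits.bcCone, t, SpectralTopology.algToBase]
      rfl

end Base

end Groth.Pi1PBC
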