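import Groth.Agent.Pi1PBC.Triv
import Groth.Agent.Pi1FEt.FiberUnique
import Groth.Agent.Pi1Etale.EqLocus

/-!
# Points of fibrewise trivialised covers over rational points of the constant factor
-/

universe u

set_option autoImplicit false
set_option backward.isDefEq.respectTransparency false
set_option backward.defeqAttrib.useBackward true
set_option linter.style.haveILetI false

open CategoryTheory Limits AlgebraicGeometry IsLocalRing

namespace Groth.Pi1PBC

variable {k : Type u} [Field k] {X C : Scheme.{u}}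
  (f : X ⟶ Spec (CommRingCat.of k)) (g : C ⟶ Spec (CommRingCat.of k))

theorem finite_fiberObj {Ω : Type u} [Field Ω] [IsSepClosed Ω] {X : Scheme.{u}}
    (ξ : Spec (CommRingCat.of Ω) ⟶ X) (Y : FEt.Cat X) : Finite (FEt.fiberObj ξ Y) :=
  haveI : Finite ((Pi1FEt.fiberFun ξ ⋙ FintypeCat.incl).obj Y) :=
    inferInstanceAs (Finite ((Pi1FEt.fiberFun ξ).obj Y))
  Finite.of_equiv _ ((Pi1FEt.fiberFunIso ξ).app Y).toEquiv

/-- The spectrum of a local ring is connected. -/
theorem connectedSpace_spec (O : Type u) [CommRing O] [IsLocalRing O] :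
    ConnectedSpace ↥(Spec (CommRingCat.of O)) := by
  haveI : Nonempty ↥(Spec (CommRingCat.of O)) := ⟨(IsLocalRing.closedPoint O : PrimeSpectrum O)⟩
  refine connectedSpace_iff_clopen.2 ⟨inferInstance, fun C hC => ?_⟩
  by_cases h : (IsLocalRing.closedPoint O : PrimeSpectrum O) ∈ C
  · exact .inr (Set.eq_univ_of_forall fun x =>
      (IsLocalRing.specializes_closedPoint x).mem_open hC.2 h)
  · exact .inl (Set.eq_empty_of_forall_notMem fun x hx =>
      ((IsLocalRing.specializes_closedPoint x).mem_open hC.compl.2 h) hx)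

/-- Over an algebraically closed field a point with connected source of a finite etale cover over a
rational point is constant. -/
theorem exists_constPoint [IsAlgClosed k] {T : Scheme.{u}} [ConnectedSpace T]
    (a : Spec (CommRingCat.of k) ⟶ X) (V : FEt.Cat X) (q : T ⟶ Spec (CommRingCat.of k))
    (w : T ⟶ V.left) (hw : w ≫ V.hom = q ≫ a) : ∃ v : FEt.fiberObj a V, w = q ≫ v.1 := by
  haveI : IsFinite V.hom := V.prop.1
  haveI : Etale V.hom := V.prop.2
  obtain ⟨Ω, _, _, ξ, -⟩ := Pi1FEt.exists_geomPoint (Classical.arbitrary T)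
  let F : FEt.fiberObj a V → FEt.fiberObj ((ξ ≫ q) ≫ a) V :=
    fun v => ⟨(ξ ≫ q) ≫ v.1, by rw [Category.assoc, v.2]⟩
  haveI := finite_fiberObj a V
  haveI := finite_fiberObj ((ξ ≫ q) ≫ a) V
  have hF : Function.Injective F := fun v v' e => Subtype.ext
    (Pi1Etale.eq_of_comp_eq_of_connected V.hom v.1 v'.1 (v.2.trans v'.2.symm) (ξ ≫ q)
      (congrArg Subtype.val e))
  have hcard : Nat.card (FEt.fiberObj ((ξ ≫ q) ≫ a) V) ≤ Nat.card (FEt.fiberObj a V) := by
    rw [Pi1FEt.natCard_fiberObj, Pi1FEt.natCard_fiberObj, Scheme.Hom.comp_apply,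
      Subsingleton.elim ((ξ ≫ q) default) default]
  obtain ⟨v, hv⟩ := (hF.bijective_of_nat_card_le hcard).2
    ⟨ξ ≫ w, by rw [Category.assoc, hw]; simp⟩
  refine ⟨v, Pi1Etale.eq_of_comp_eq_of_connected V.hom w (q ≫ v.1) ?_ ξ ?_⟩
  · rw [hw, Category.assoc, v.2]
  · exact (congrArg Subtype.val hv).symm.trans (Category.assoc _ _ _)

theorem constPoint_inj {T : Scheme.{u}} [Nonempty T] {a : Spec (CommRingCat.of k) ⟶ X} {V : FEt.Cat X}
    (q : T ⟶ Spec (CommRingCat.of k)) (v v' : FEt.fiberObj a V) (h : q ≫ v.1 = q ≫ v'.1) : v = v' := by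
  haveI : IsFinite V.hom := V.prop.1
  haveI : Etale V.hom := V.prop.2
  exact Subtype.ext (Pi1Etale.eq_of_comp_eq_of_connected V.hom v.1 v'.1 (v.2.trans v'.2.symm) q h)

variable {f g} {a a' : Spec (CommRingCat.of k) ⟶ X} (ha : a ≫ f = 𝟙 _) (ha' : a' ≫ f = 𝟙 _)

/-- The section of the fibre given by a rational point of the constant factor. -/
noncomputable def sct {T : Scheme.{u}} (t : T ⟶ C) : T ⟶ fib f g t :=
  pullback.lift ((t ≫ g) ≫ a) (𝟙 T) (by rw [Category.assoc, ha, Category.comp_id, Category.id_comp])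

theorem sct_fst {T : Scheme.{u}} (t : T ⟶ C) : sct (g := g) ha t ≫ fibP f g t = (t ≫ g) ≫ a :=
  pullback.lift_fst _ _ _

/-- The slice of the family at a rational point of the constant factor. -/
noncomputable def slice (f : X ⟶ Spec (CommRingCat.of k)) (g : C ⟶ Spec (CommRingCat.of k))
    {a : Spec (CommRingCat.of k) ⟶ X} (ha : a ≫ f = 𝟙 _) : C ⟶ pullback f g :=
  pullback.lift (g ≫ a) (𝟙 C) (by rw [Category.assoc, ha, Category.comp_id, Category.id_comp])

theorem sct_fibJ {T : Scheme.{u}} (t : T ⟶ C) :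
    sct (g := g) ha t ≫ fibJ f g t = t ≫ slice f g ha := by
  apply pullback.hom_ext <;> simp [sct, slice]

theorem sct_fibC {T' T : Scheme.{u}} (c : T' ⟶ T) (t : T ⟶ C) :
    sct (g := g) ha (c ≫ t) ≫ fibC f g c t = c ≫ sct ha t := by
  apply pullback.hom_ext <;>
    simp [sct, fibC]

variable {Z : FEt.Cat (pullback f g)}

/-- The point `z` of `Z` over the slice corresponds to the rational point `v` of `V`. -/
def Corr {T : Scheme.{u}} {t : T ⟶ C} {V : FEt.Cat X} (m : pullback V.hom (fibP f g t) ⟶ Z.left)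
    (z : T ⟶ Z.left) (v : FEt.fiberObj a V) : Prop :=
  pullback.lift ((t ≫ g) ≫ v.1) (sct ha t) (by rw [Category.assoc, v.2, sct_fst]) ≫ m = z

theorem Corr.comp {T' T : Scheme.{u}} {t : T ⟶ C} {V : FEt.Cat X}
    {m : pullback V.hom (fibP f g t) ⟶ Z.left} {z : T ⟶ Z.left} {v : FEt.fiberObj a V}
    (h : Corr ha m z v) (c : T' ⟶ T) : Corr ha (mapC f g c t V ≫ m) (c ≫ z) v := by
  unfold Corr at h ⊢
  rw [← h, ← Category.assoc, ← Category.assoc]
  congr 1
  apply pullback.hom_ext <;>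
    simp [mapC, sct_fibC]

theorem exists_corr [IsAlgClosed k] {T : Scheme.{u}} [ConnectedSpace T] {t : T ⟶ C} {V : FEt.Cat X}
    {m : pullback V.hom (fibP f g t) ⟶ Z.left} (h : IsTriv f g Z t V m) {z : T ⟶ Z.left}
    (hz : z ≫ Z.hom = t ≫ slice f g ha) : ∃ v, Corr ha m z v := by
  let l := h.lift z (sct ha t) (by rw [hz, sct_fibJ])
  have hl : l ≫ pullback.snd V.hom (fibP f g t) = sct ha t := h.lift_snd _ _ _
  have hw : (l ≫ pullback.fst V.hom (fibP f g t)) ≫ V.hom = (t ≫ g) ≫ a := by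
    rw [Category.assoc, pullback.condition, ← Category.assoc, hl, sct_fst]
  obtain ⟨v, hv⟩ := exists_constPoint a V (t ≫ g) _ hw
  refine ⟨v, ?_⟩
  have : pullback.lift ((t ≫ g) ≫ v.1) (sct ha t) (by rw [Category.assoc, v.2, sct_fst]) = l := by
    apply pullback.hom_ext
    · rw [pullback.lift_fst]; exact hv.symm
    · rw [pullback.lift_snd]; exact hl.symm
  rw [Corr, this]
  exact h.lift_fst _ _ _

theorem Corr.unique {T : Scheme.{u}} [Nonempty T] {t : T ⟶ C} {V : FEt.Cat X}
    {m : pullback V.hom (fibP f g t) ⟶ Z.left} (h : IsTriv f g Z t V m) {z : T ⟶ Z.left}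
    {v v' : FEt.fiberObj a V} (hv : Corr ha m z v) (hv' : Corr ha m z v') : v = v' := by
  refine constPoint_inj (t ≫ g) v v' ?_
  have := h.hom_ext (hv.trans hv'.symm) (by rw [pullback.lift_snd, pullback.lift_snd])
  have := congrArg (· ≫ pullback.fst V.hom (fibP f g t)) this
  simpa [pullback.lift_fst] using this

theorem exists_point {T : Scheme.{u}} {t : T ⟶ C} {V : FEt.Cat X}
    {m : pullback V.hom (fibP f g t) ⟶ Z.left} (h : IsTriv f g Z t V m) (v : FEt.fiberObj a V) :
    ∃ z, z ≫ Z.hom = t ≫ slice f g ha ∧ Corr ha m z v :=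
  ⟨_, by rw [Category.assoc, h.w, pullback.lift_snd_assoc, sct_fibJ], rfl⟩

variable (η : FEt.fiber a ⟶ FEt.fiber a')

/-- Two points over the slices are related through an identification. -/
def RelVia {T : Scheme.{u}} {t : T ⟶ C} {V : FEt.Cat X} (m : pullback V.hom (fibP f g t) ⟶ Z.left)
    (z z' : T ⟶ Z.left) : Prop :=
  ∀ (v : FEt.fiberObj a V) (v' : FEt.fiberObj a' V),
    Corr ha m z v → Corr ha' m z' v' → η.app V v = v'

theorem relVia_comp_iff [IsAlgClosed k] {T' T : Scheme.{u}} [ConnectedSpace T] [Nonempty T']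
    {t : T ⟶ C} {V : FEt.Cat X}
    {m : pullback V.hom (fibP f g t) ⟶ Z.left} (h : IsTriv f g Z t V m) {z z' : T ⟶ Z.left}
    (hz : z ≫ Z.hom = t ≫ slice f g ha) (hz' : z' ≫ Z.hom = t ≫ slice f g ha') (c : T' ⟶ T) :
    RelVia ha ha' η (mapC f g c t V ≫ m) (c ≫ z) (c ≫ z') ↔ RelVia ha ha' η m z z' := by
  obtain ⟨v, hv⟩ := exists_corr ha h hz
  obtain ⟨v', hv'⟩ := exists_corr ha' h hz'
  refine ⟨fun H w w' hw hw' => H w w' (hw.comp ha c) (hw'.comp ha' c), fun H w w' hw hw' => ?_⟩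
  rw [hw.unique ha (h.comp f g c) (hv.comp ha c), hw'.unique ha' (h.comp f g c) (hv'.comp ha' c)]
  exact H v v' hv hv'

/-- Two points over the slices are related. -/
def Rel {T : Scheme.{u}} (t : T ⟶ C) (z z' : T ⟶ Z.left) : Prop :=
  ∀ (V : FEt.Cat X) (m : pullback V.hom (fibP f g t) ⟶ Z.left), IsTriv f g Z t V m →
    RelVia ha ha' η m z z'

/-- At a geometric point the relation does not depend on the identification. -/
theorem rel_iff_relVia [IsAlgClosed k] [IsProper f] {Ω : Type u} [Field Ω] [IsSepClosed Ω]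
    {t : Spec (CommRingCat.of Ω) ⟶ C} {V : FEt.Cat X}
    {m : pullback V.hom (fibP f g t) ⟶ Z.left} (h : IsTriv f g Z t V m)
    {z z' : Spec (CommRingCat.of Ω) ⟶ Z.left}
    (hz : z ≫ Z.hom = t ≫ slice f g ha) (hz' : z' ≫ Z.hom = t ≫ slice f g ha') :
    Rel ha ha' η t z z' ↔ RelVia ha ha' η m z z' := by
  refine ⟨fun H => H V m h, fun H V' m' h' => ?_⟩
  haveI := isEquivalence_fibP f g t
  let φ := (h.iso f g) ≪≫ (h'.iso f g).symm
  let u : V ⟶ V' := (FEt.restrict (fibP f g t)).preimage φ.hom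
  have hu : (((FEt.restrict (fibP f g t)).map u).left) = φ.hom.left := by
    rw [Functor.map_preimage]
  have key : ((FEt.restrict (fibP f g t)).map u).left ≫ m' = m := by
    rw [hu]
    change ((IsPullback.isoPullback h).hom ≫ (IsPullback.isoPullback h').inv) ≫ m' = m
    rw [Category.assoc]
    simp
  have corr : ∀ {b : Spec (CommRingCat.of k) ⟶ X} (hb : b ≫ f = 𝟙 _)
      {w : Spec (CommRingCat.of Ω) ⟶ Z.left} {v : FEt.fiberObj b V},
      Corr hb m w v → Corr hb m' w ((FEt.fiber b).map u v) := by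
    intro b hb w v hv
    unfold Corr at hv ⊢
    rw [← hv, ← key, ← Category.assoc]
    congr 1
    apply pullback.hom_ext
    · rw [pullback.lift_fst]
      exact ((Category.assoc _ _ _).trans ((congrArg (_ ≫ ·) (Pi1FEt.restrict_map_left_fst u _)).trans
        ((pullback.lift_fst_assoc _ _ _ _).trans (Category.assoc _ _ _)))).symm
    · rw [pullback.lift_snd, Category.assoc]
      exact ((congrArg (_ ≫ ·) (MorphismProperty.Over.w ((FEt.restrict (fibP f g t)).map u))).trans
        (pullback.lift_snd _ _ _)).symm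
  obtain ⟨v, hv⟩ := exists_corr ha h hz
  obtain ⟨v', hv'⟩ := exists_corr ha' h hz'
  intro w w' hw hw'
  rw [hw.unique ha h' (corr ha hv), hw'.unique ha' h' (corr ha' hv'), ← H v v' hv hv']
  exact NatTrans.naturality_apply η u v

theorem rel_comp_iff [IsAlgClosed k] [IsProper f] {Ω Ω' : Type u} [Field Ω] [IsSepClosed Ω]
    [Field Ω'] [IsSepClosed Ω'] (c : Spec (CommRingCat.of Ω') ⟶ Spec (CommRingCat.of Ω))
    {t : Spec (CommRingCat.of Ω) ⟶ C} {z z' : Spec (CommRingCat.of Ω) ⟶ Z.left}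
    (hz : z ≫ Z.hom = t ≫ slice f g ha) (hz' : z' ≫ Z.hom = t ≫ slice f g ha') :
    Rel ha ha' η (c ≫ t) (c ≫ z) (c ≫ z') ↔ Rel ha ha' η t z z' := by
  obtain ⟨V, hV⟩ := exists_cls f g t Z
  obtain ⟨m, hm⟩ := hV.exists_isTriv
  rw [rel_iff_relVia ha ha' η hm hz hz', rel_iff_relVia ha ha' η (hm.comp f g c)
    (by rw [Category.assoc, hz, Category.assoc]) (by rw [Category.assoc, hz', Category.assoc]),
    relVia_comp_iff ha ha' η hm hz hz' c]

/-- The relation is invariant under specialisation. -/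
theorem rel_spec_iff [IsAlgClosed k] [IsProper f] {O : Type u} [CommRing O] [HenselianLocalRing O]
    [IsSepClosed (ResidueField O)] {K : Type u} [Field K] [IsSepClosed K] (ι : O →+* K)
    {t : Spec (CommRingCat.of O) ⟶ C} {z z' : Spec (CommRingCat.of O) ⟶ Z.left}
    (hz : z ≫ Z.hom = t ≫ slice f g ha) (hz' : z' ≫ Z.hom = t ≫ slice f g ha') :
    Rel ha ha' η (Spec.map (CommRingCat.ofHom ι) ≫ t) (Spec.map (CommRingCat.ofHom ι) ≫ z)
        (Spec.map (CommRingCat.ofHom ι) ≫ z') ↔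
      Rel ha ha' η (Spec.map (CommRingCat.ofHom (residue O)) ≫ t)
        (Spec.map (CommRingCat.ofHom (residue O)) ≫ z) (Spec.map (CommRingCat.ofHom (residue O)) ≫ z') := by
  obtain ⟨V, hV⟩ := exists_cls f g (Spec.map (CommRingCat.ofHom (residue O)) ≫ t) Z
  obtain ⟨m, hm⟩ := (hV.of_closedPoint f g).exists_isTriv
  haveI : ConnectedSpace ↥(Spec (CommRingCat.of O)) :=
    connectedSpace_spec O
  have aux : ∀ {L : Type u} [Field L] [IsSepClosed L] (c : Spec (CommRingCat.of L) ⟶ Spec (CommRingCat.of O)),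
      Rel ha ha' η (c ≫ t) (c ≫ z) (c ≫ z') ↔ RelVia ha ha' η m z z' := fun c => by
    rw [rel_iff_relVia ha ha' η (hm.comp f g c) (by rw [Category.assoc, hz, Category.assoc])
      (by rw [Category.assoc, hz', Category.assoc]), relVia_comp_iff ha ha' η hm hz hz' c]
  rw [aux, aux]

end Groth.Pi1PBC
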