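import Groth.Agent.Pi1PBC.Basic
import Groth.Agent.Pi1Hensel.SepClosed
import Groth.Agent.S0289
import Groth.Agent.HTopHyper.RingCore
import Groth.Agent.EtaleBase.NormalStalk
import Mathlib.RingTheory.Valuation.LocalSubring
import Mathlib.RingTheory.Jacobson.Ring
import Mathlib.FieldTheory.PurelyInseparable.Basic

/-!
# Finite etale covers of proper schemes and extensions of separably closed fields
-/

universe u

set_option autoImplicit false
set_option backward.isDefEq.respectTransparency false
set_option linter.style.haveILetI false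

open CategoryTheory Limits AlgebraicGeometry

namespace Groth.Pi1PBC

open IsLocalRing

theorem essSurj_field {k K : Type u} [Field k] [IsSepClosed k] [Field K] [IsSepClosed K] [Algebra k K]
    {X : Scheme.{u}} (f : X ⟶ Spec (CommRingCat.of k)) [IsProper f] :
    (FEt.restrict (pullback.fst f (Spec.map (CommRingCat.ofHom (algebraMap k K))))).EssSurj where
  mem_essImage Y := by
    haveI : CompactSpace X := QuasiCompact.compactSpace_of_compactSpace f
    haveI : QuasiSeparatedSpace X := quasiSeparatedSpace_of_quasiSeparated f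
    let φ : CommRingCat.of k ⟶ CommRingCat.of K := CommRingCat.ofHom (algebraMap k K)
    obtain ⟨B, ψ, χ, hχ, hψ, hχi, VB, ⟨eY⟩⟩ := exists_descend f φ Y
    -- a closed point, with residue field purely inseparable over `k`
    haveI : IsDomain B := hχi.isDomain χ.hom
    obtain ⟨M, hM⟩ := Ideal.exists_maximal B
    letI := Ideal.Quotient.field M
    let qM : B ⟶ CommRingCat.of (B ⧸ M) := CommRingCat.ofHom (Ideal.Quotient.mk M)
    let ψM : CommRingCat.of k ⟶ CommRingCat.of (B ⧸ M) := ψ ≫ qM
    let b : Spec (CommRingCat.of (B ⧸ M)) ⟶ Spec (CommRingCat.of k) := Spec.map ψM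
    let iM := pullback.fst f b
    haveI : (FEt.restrict iM).IsEquivalence := by
      letI : Algebra k (B ⧸ M) := ψM.hom.toAlgebra
      have hft : ψM.hom.FiniteType := (RingHom.FiniteType.of_surjective qM.hom Ideal.Quotient.mk_surjective).comp hψ
      haveI : Algebra.FiniteType k (B ⧸ M) := hft
      haveI : Module.Finite k (B ⧸ M) := finite_of_finite_type_of_isJacobsonRing k (B ⧸ M)
      haveI : IsIntegralHom b := by
        rw [IsIntegralHom.SpecMap_iff]
        exact Algebra.IsIntegral.isIntegral (R := k) (A := B ⧸ M)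
      haveI : Surjective b := ⟨fun z =>
        ⟨IsLocalRing.closedPoint (B ⧸ M), Subsingleton.elim _ _⟩⟩
      haveI : UniversallyInjective b := by
        haveI : IsPurelyInseparable k (B ⧸ M) := inferInstance
        exact (Groth.HTopHyper.universallyInjective_SpecMap_iff _).2 fun L _ d₁ d₂ e =>
          IsPurelyInseparable.injective_comp_algebraMap k (B ⧸ M) L e
      haveI : IsIntegralHom iM := MorphismProperty.pullback_fst _ _ inferInstance
      haveI : UniversallyInjective iM := MorphismProperty.pullback_fst _ _ inferInstance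
      haveI : Surjective iM := MorphismProperty.pullback_fst _ _ inferInstance
      exact Groth.Agent.S0289.result iM
    let V0 := (FEt.restrict iM).objPreimage ((FEt.restrict (pbMap f ψ ψM qM rfl)).obj VB)
    let e0 : (FEt.restrict iM).obj V0 ≅ (FEt.restrict (pbMap f ψ ψM qM rfl)).obj VB :=
      (FEt.restrict iM).objObjPreimageIso _
    -- a valuation ring dominating the point
    let S : Subring K := χ.hom.range
    let r : B →+* S := χ.hom.rangeRestrict
    have hr : Function.Bijective r :=
      ⟨fun x y h => hχi (congrArg Subtype.val h), χ.hom.rangeRestrict_surjective⟩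
    let eS : B ≃+* S := RingEquiv.ofBijective r hr
    obtain ⟨O, hSO, hI⟩ := (M.comap eS.symm.toRingHom).image_subset_nonunits_valuationSubring
      (K := K) (Ideal.comap_ne_top _ hM.ne_top)
    haveI : IsSepClosed (FractionRing O) :=
      Groth.EtaleBase.NormalEt.isSepClosed_of_ringEquiv (FractionRing.algEquiv O K).toRingEquiv.symm
    haveI : HenselianLocalRing O := Groth.Pi1Hensel.henselianLocalRing O
    let χO : B ⟶ CommRingCat.of O :=
      CommRingCat.ofHom ((Subring.inclusion hSO).comp r)
    let ιO : CommRingCat.of O ⟶ CommRingCat.of K := CommRingCat.ofHom O.subtype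
    let q : CommRingCat.of O ⟶ CommRingCat.of (O ⧸ maximalIdeal O) :=
      CommRingCat.ofHom (Ideal.Quotient.mk (maximalIdeal O))
    have hM0 : ∀ x ∈ M, (χO ≫ q) x = 0 := fun x hx => by
      change Ideal.Quotient.mk _ (χO x) = 0
      rw [Ideal.Quotient.eq_zero_iff_mem]
      have h1 : χ x ∈ O.nonunits := hI ⟨r x, by
        change eS.symm (eS x) ∈ M
        rwa [RingEquiv.symm_apply_apply], rfl⟩
      exact ValuationSubring.coe_mem_nonunits_iff.1 h1
    let ε : CommRingCat.of (B ⧸ M) ⟶ CommRingCat.of (O ⧸ maximalIdeal O) :=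
      CommRingCat.ofHom (Ideal.Quotient.lift M (χO ≫ q).hom hM0)
    have hε : qM ≫ ε = χO ≫ q := rfl
    have hιO : χO ≫ ιO = χ := rfl
    let φO : CommRingCat.of k ⟶ CommRingCat.of O := ψ ≫ χO
    let g : pullback f (Spec.map φO) ⟶ Spec (CommRingCat.of O) := pullback.snd f (Spec.map φO)
    haveI : IsProper g := MorphismProperty.pullback_snd _ _ inferInstance
    let j := pullback.fst g (Spec.map q)
    obtain ⟨hfull, hfaith⟩ := fullyFaithful_henselian (maximalIdeal O) g
    let t₁ := pbMap f ψ φO χO rfl
    let t₂ := pullback.fst f (Spec.map φO)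
    let l : pullback g (Spec.map q) ⟶ pullback f b :=
      pullback.lift (j ≫ t₂) (pullback.snd g (Spec.map q) ≫ Spec.map ε) (by
        have e1 : t₂ ≫ f = g ≫ Spec.map φO := pullback.condition
        have e2 : j ≫ g = pullback.snd g (Spec.map q) ≫ Spec.map q := pullback.condition
        have e3 : Spec.map ε ≫ b = Spec.map q ≫ Spec.map φO := by
          rw [← Spec.map_comp, ← Spec.map_comp]; rfl
        rw [Category.assoc, Category.assoc, e1, e3, reassoc_of% e2])
    have h₂ : l ≫ iM = j ≫ t₂ := pullback.lift_fst _ _ _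
    have h₁ : l ≫ pbMap f ψ ψM qM rfl = j ≫ t₁ := by
      refine pullback.hom_ext ?_ ?_
      · simp only [t₁, Category.assoc, pbMap_fst]; exact h₂
      · have e1 : l ≫ pullback.snd f (Spec.map ψM) = pullback.snd g (Spec.map q) ≫ Spec.map ε :=
          pullback.lift_snd _ _ _
        have e2 : j ≫ g = pullback.snd g (Spec.map q) ≫ Spec.map q := pullback.condition
        have e3 : Spec.map ε ≫ Spec.map qM = Spec.map q ≫ Spec.map χO := by
          rw [← Spec.map_comp, ← Spec.map_comp, hε]
        simp only [t₁, Category.assoc, pbMap_snd]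
        rw [reassoc_of% e1, e3]
        exact (reassoc_of% e2) (Spec.map χO) |>.symm
    let W₁ := (FEt.restrict t₁).obj VB
    let W₂ := (FEt.restrict t₂).obj V0
    let a : (FEt.restrict j).obj W₂ ≅ (FEt.restrict j).obj W₁ :=
      (Pi1FEt.restrictCompIso j t₂).symm.app V0 ≪≫ (Pi1FEt.restrictCongr h₂.symm).app V0 ≪≫
      (Pi1FEt.restrictCompIso l iM).app V0 ≪≫ (FEt.restrict l).mapIso e0 ≪≫
      (Pi1FEt.restrictCompIso l (pbMap f ψ ψM qM rfl)).symm.app VB ≪≫
      (Pi1FEt.restrictCongr h₁).app VB ≪≫ (Pi1FEt.restrictCompIso j t₁).app VB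
    haveI := hfull; haveI := hfaith
    let w : W₂ ≅ W₁ := (FEt.restrict j).preimageIso a
    have hφ : φO ≫ ιO = φ := by rw [Category.assoc, hιO, hχ]
    let m := pbMap f φO φ ιO hφ
    have h₃ : m ≫ t₂ = pullback.fst f (Spec.map φ) := pbMap_fst f _ _ _ _
    have h₄ : m ≫ t₁ = pbMap f ψ φ χ hχ := by
      refine pullback.hom_ext ?_ ?_
      · simp [m, t₁]
      · simp only [m, t₁, Category.assoc, pbMap_snd, pbMap_snd_assoc]
        rw [← Spec.map_comp, hιO]
    exact ⟨V0, ⟨(Pi1FEt.restrictCongr h₃).symm.app V0 ≪≫ (Pi1FEt.restrictCompIso m t₂).app V0 ≪≫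
      (FEt.restrict m).mapIso w ≪≫ (Pi1FEt.restrictCompIso m t₁).symm.app VB ≪≫
      (Pi1FEt.restrictCongr h₄).app VB ≪≫ eY⟩⟩

/-- Proper schemes and extensions of separably closed fields. -/
theorem isEquivalence_field {k K : Type u} [Field k] [IsSepClosed k] [Field K] [IsSepClosed K] [Algebra k K]
    {X : Scheme.{u}} (f : X ⟶ Spec (CommRingCat.of k)) [IsProper f] :
    (FEt.restrict (pullback.fst f (Spec.map (CommRingCat.ofHom (algebraMap k K))))).IsEquivalence :=
  haveI := (fullyFaithful_field (K := K) f).1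
  haveI := (fullyFaithful_field (K := K) f).2
  haveI := essSurj_field (K := K) f
  { }

end Groth.Pi1PBC
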