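import Groth.Agent.Pi1PBC.Points

/-!
# Constancy of families of finite etale covers over rational points of a proper factor
-/

universe u

set_option autoImplicit false
set_option backward.isDefEq.respectTransparency false
set_option backward.defeqAttrib.useBackward true
set_option linter.style.haveILetI false

open CategoryTheory Limits AlgebraicGeometry IsLocalRing

namespace Groth.Pi1PBC

/-- A finite etale morphism bijective on geometric points is an isomorphism. -/
theorem isIso_of_geomPoints {U W : Scheme.{u}} (h : U ⟶ W) [IsFinite h] [Etale h]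
    (hinj : ∀ (L : Type u) [Field L] [IsAlgClosed L] (ξ₁ ξ₂ : Spec (CommRingCat.of L) ⟶ U),
      ξ₁ ≫ h = ξ₂ ≫ h → ξ₁ = ξ₂)
    (hsurj : ∀ (L : Type u) [Field L] [IsAlgClosed L] (ξ : Spec (CommRingCat.of L) ⟶ W),
      ∃ ζ, ζ ≫ h = ξ) : IsIso h := by
  haveI : UniversallyInjective h := ((tfae_universallyInjective h).out 0 1).2 fun K iK g₁ g₂ e => by
    letI := iK
    let c : Spec (CommRingCat.of (AlgebraicClosure K)) ⟶ Spec (CommRingCat.of K) :=
      Spec.map (CommRingCat.ofHom (algebraMap K (AlgebraicClosure K)))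
    exact Pi1Etale.eq_of_comp_eq_of_connected h g₁ g₂ e c
      (hinj _ _ _ (by rw [Category.assoc, Category.assoc]; exact congrArg (c ≫ ·) e))
  haveI : Surjective h := ⟨fun w => by
    obtain ⟨L, _, _, ξ, rfl⟩ := Pi1FEt.exists_geomPoint w
    obtain ⟨ζ, rfl⟩ := hsurj L ξ
    exact ⟨ζ default, (Scheme.Hom.comp_apply _ _ _).symm⟩⟩
  exact Pi1Etale.isIso_of_etale_universallyInjective_surjective h

variable {k : Type u} [Field k] [IsAlgClosed k] {X C : Scheme.{u}}
  {f : X ⟶ Spec (CommRingCat.of k)} {g : C ⟶ Spec (CommRingCat.of k)} [IsProper f]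

/-- The slices of a family of covers at two rational points of a connected proper factor are
isomorphic. -/
theorem nonempty_slice_iso [ConnectedSpace X] [IsLocallyNoetherian C]
    {a a' : Spec (CommRingCat.of k) ⟶ X} (ha : a ≫ f = 𝟙 _) (ha' : a' ≫ f = 𝟙 _)
    (Z : FEt.Cat (pullback f g)) :
    Nonempty ((FEt.restrict (slice f g ha)).obj Z ≅ (FEt.restrict (slice f g ha')).obj Z) := by
  obtain ⟨η⟩ := Pi1FEt.nonempty_fiberIso a a'
  let W := pullback Z.hom (slice f g ha)
  let W' := pullback Z.hom (slice f g ha')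
  let p : W ⟶ C := pullback.snd _ _
  let p' : W' ⟶ C := pullback.snd _ _
  haveI : IsFinite Z.hom := Z.prop.1
  haveI : Etale Z.hom := Z.prop.2
  haveI : IsFinite p := MorphismProperty.pullback_snd _ _ inferInstance
  haveI : Etale p := MorphismProperty.pullback_snd _ _ inferInstance
  haveI : IsFinite p' := MorphismProperty.pullback_snd _ _ inferInstance
  haveI : Etale p' := MorphismProperty.pullback_snd _ _ inferInstance
  let E := pullback p p'
  let q : E ⟶ W := pullback.fst p p'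
  let q' : E ⟶ W' := pullback.snd p p'
  haveI : IsFinite q := MorphismProperty.pullback_fst _ _ inferInstance
  haveI : Etale q := MorphismProperty.pullback_fst _ _ inferInstance
  haveI : IsFinite q' := MorphismProperty.pullback_snd _ _ inferInstance
  haveI : Etale q' := MorphismProperty.pullback_snd _ _ inferInstance
  let π : E ⟶ C := q ≫ p
  haveI : IsFinite π := inferInstance
  haveI : IsLocallyNoetherian E := LocallyOfFiniteType.isLocallyNoetherian π
  let z : E ⟶ Z.left := q ≫ pullback.fst _ _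
  let z' : E ⟶ Z.left := q' ≫ pullback.fst _ _
  have hz : z ≫ Z.hom = π ≫ slice f g ha := by
    simp only [z, π, p, Category.assoc, pullback.condition]
  have hπ' : q' ≫ p' = π := pullback.condition.symm
  have hz' : z' ≫ Z.hom = π ≫ slice f g ha' := by
    rw [Category.assoc, pullback.condition, ← Category.assoc, hπ']
  let P : ∀ {T : Scheme.{u}}, (T ⟶ E) → Prop := fun e => Rel ha ha' η.hom (e ≫ π) (e ≫ z) (e ≫ z')
  have hzc : ∀ {T : Scheme.{u}} (e : T ⟶ E), (e ≫ z) ≫ Z.hom = (e ≫ π) ≫ slice f g ha :=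
    fun e => by rw [Category.assoc, hz, ← Category.assoc]
  have hzc' : ∀ {T : Scheme.{u}} (e : T ⟶ E), (e ≫ z') ≫ Z.hom = (e ≫ π) ≫ slice f g ha' :=
    fun e => by rw [Category.assoc, hz', ← Category.assoc]
  let S : Set ↥E := {x | ∃ (L : Type u) (_ : Field L) (_ : IsAlgClosed L)
    (ξ : Spec (CommRingCat.of L) ⟶ E), ξ default = x ∧ P ξ}
  have hall : ∀ {L : Type u} [Field L] [IsAlgClosed L] (ξ : Spec (CommRingCat.of L) ⟶ E),
      ξ default ∈ S ↔ P ξ := by
    intro L _ _ ξ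
    refine ⟨fun ⟨L', _, _, ξ', hx, hξ'⟩ => ?_,
      fun hξ => ⟨L, inferInstance, inferInstance, ξ, rfl, hξ⟩⟩
    obtain ⟨L'', _, _, c, c', hc⟩ := exists_common ξ ξ' hx.symm
    have h1 := (rel_comp_iff ha ha' η.hom c' (hzc ξ') (hzc' ξ')).2 hξ'
    simp only [← Category.assoc] at h1
    rw [← hc] at h1
    simp only [Category.assoc] at h1
    exact (rel_comp_iff ha ha' η.hom c (hzc ξ) (hzc' ξ)).1 h1
  have hS : IsClopen S := isClopen_of_stable fun x s hxs => by
    obtain ⟨O, _, _, _, _, K, _, _, ι, τ, hx, hs⟩ := exists_specData hxs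
    rw [← hx, ← hs, hall, hall]
    simp only [P, Category.assoc]
    exact rel_spec_iff ha ha' η.hom ι (hzc τ) (hzc' τ)
  let U : E.Opens := ⟨S, hS.2⟩
  haveI : IsClosedImmersion U.ι :=
    IsClosedImmersion.of_isPreimmersion U.ι (by rw [Scheme.Opens.range_ι]; exact hS.1)
  have hU : ∀ {L : Type u} [Field L] [IsAlgClosed L] (ξ : Spec (CommRingCat.of L) ⟶ U.toScheme),
      P (ξ ≫ U.ι) := fun ξ => (hall _).1 (by
    rw [Scheme.Hom.comp_apply]
    exact (ξ default).2)
  have hlift : ∀ {L : Type u} [Field L] [IsAlgClosed L] (e : Spec (CommRingCat.of L) ⟶ E),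
      P e → ∃ ζ, ζ ≫ U.ι = e := fun e he => by
    refine ⟨IsOpenImmersion.lift U.ι e ?_, IsOpenImmersion.lift_fac _ _ _⟩
    rintro _ ⟨x, rfl⟩
    rw [Scheme.Opens.range_ι, Subsingleton.elim x default]
    exact (hall e).2 he
  have hext : ∀ {T : Scheme.{u}} (e₁ e₂ : T ⟶ E), e₁ ≫ π = e₂ ≫ π → e₁ ≫ z = e₂ ≫ z →
      e₁ ≫ z' = e₂ ≫ z' → e₁ = e₂ := by
    intro T e₁ e₂ h₀ h₁ h₂
    apply pullback.hom_ext <;> apply pullback.hom_ext
    · simpa [z, q] using h₁
    · simpa [π, q, p] using h₀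
    · simpa [z', q'] using h₂
    · rw [← hπ'] at h₀
      simpa [q', p'] using h₀
  haveI : IsIso (U.ι ≫ q) := by
    refine isIso_of_geomPoints _ (fun L _ _ ξ₁ ξ₂ e => ?_) (fun L _ _ ξ => ?_)
    · rw [← Category.assoc, ← Category.assoc] at e
      have h₀ : (ξ₁ ≫ U.ι) ≫ π = (ξ₂ ≫ U.ι) ≫ π := by
        simp only [π, ← Category.assoc]; rw [e]
      have h₁ : (ξ₁ ≫ U.ι) ≫ z = (ξ₂ ≫ U.ι) ≫ z := by
        simp only [z, ← Category.assoc]; rw [e]
      obtain ⟨V, hV⟩ := exists_cls f g ((ξ₁ ≫ U.ι) ≫ π) Z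
      obtain ⟨m, hm⟩ := hV.exists_isTriv
      have hP₂ := hU ξ₂
      simp only [P, ← h₀, ← h₁] at hP₂
      obtain ⟨v, hv⟩ := exists_corr ha hm (hzc (ξ₁ ≫ U.ι))
      obtain ⟨v₁, hv₁⟩ := exists_corr ha' hm (hzc' (ξ₁ ≫ U.ι))
      obtain ⟨v₂, hv₂⟩ := exists_corr ha' hm (z := (ξ₂ ≫ U.ι) ≫ z') (by rw [hzc', h₀])
      have e₁ := hU ξ₁ V m hm v v₁ hv hv₁
      have e₂ := hP₂ V m hm v v₂ hv hv₂
      obtain rfl : v₁ = v₂ := e₁.symm.trans e₂
      exact (cancel_mono U.ι).1 (hext _ _ h₀ h₁ (hv₁.symm.trans hv₂))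
    · let t := ξ ≫ p
      have hw : (ξ ≫ pullback.fst _ _) ≫ Z.hom = t ≫ slice f g ha := by
        simp only [t, p, Category.assoc, pullback.condition]
      obtain ⟨V, hV⟩ := exists_cls f g t Z
      obtain ⟨m, hm⟩ := hV.exists_isTriv
      obtain ⟨v, hv⟩ := exists_corr ha hm hw
      obtain ⟨w', hw', hv'⟩ := exists_point ha' hm (η.hom.app V v)
      let e : Spec (CommRingCat.of L) ⟶ E := pullback.lift ξ (pullback.lift w' t hw')
        (pullback.lift_snd _ _ _).symm
      have e₀ : e ≫ q = ξ := pullback.lift_fst _ _ _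
      have e₂ : e ≫ q' = pullback.lift w' t hw' := pullback.lift_snd _ _ _
      have he : P e := by
        have h0 : e ≫ π = t := (Category.assoc _ _ _).symm.trans (congrArg (· ≫ p) e₀)
        have h1 : e ≫ z = ξ ≫ pullback.fst _ _ :=
          (Category.assoc _ _ _).symm.trans (congrArg (· ≫ _) e₀)
        have h2 : e ≫ z' = w' := (Category.assoc _ _ _).symm.trans
          ((congrArg (· ≫ _) e₂).trans (pullback.lift_fst _ _ _))
        simp only [P, h0, h1, h2]
        refine (rel_iff_relVia ha ha' η.hom hm hw hw').2 fun u u' hu hu' => ?_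
        rw [hu.unique ha hm hv, hu'.unique ha' hm hv']
      obtain ⟨ζ, hζ⟩ := hlift e he
      exact ⟨ζ, by rw [← Category.assoc, hζ, e₀]⟩
  haveI : IsIso (U.ι ≫ q') := by
    refine isIso_of_geomPoints _ (fun L _ _ ξ₁ ξ₂ e => ?_) (fun L _ _ ξ => ?_)
    · rw [← Category.assoc, ← Category.assoc] at e
      have h₀ : (ξ₁ ≫ U.ι) ≫ π = (ξ₂ ≫ U.ι) ≫ π := by
        rw [← hπ']; simp only [← Category.assoc]; rw [e]
      have h₂ : (ξ₁ ≫ U.ι) ≫ z' = (ξ₂ ≫ U.ι) ≫ z' := by
        simp only [z', ← Category.assoc]; rw [e]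
      obtain ⟨V, hV⟩ := exists_cls f g ((ξ₁ ≫ U.ι) ≫ π) Z
      obtain ⟨m, hm⟩ := hV.exists_isTriv
      have hP₂ := hU ξ₂
      simp only [P, ← h₀, ← h₂] at hP₂
      obtain ⟨v', hv'⟩ := exists_corr ha' hm (hzc' (ξ₁ ≫ U.ι))
      obtain ⟨v₁, hv₁⟩ := exists_corr ha hm (hzc (ξ₁ ≫ U.ι))
      obtain ⟨v₂, hv₂⟩ := exists_corr ha hm (z := (ξ₂ ≫ U.ι) ≫ z) (by rw [hzc, h₀])
      have e₁ := hU ξ₁ V m hm v₁ v' hv₁ hv'
      have e₂ := hP₂ V m hm v₂ v' hv₂ hv'
      obtain rfl : v₁ = v₂ := (η.app V).toEquiv.injective (e₁.trans e₂.symm)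
      exact (cancel_mono U.ι).1 (hext _ _ h₀ (hv₁.symm.trans hv₂) h₂)
    · let t := ξ ≫ p'
      have hw : (ξ ≫ pullback.fst _ _) ≫ Z.hom = t ≫ slice f g ha' := by
        simp only [t, p', Category.assoc, pullback.condition]
      obtain ⟨V, hV⟩ := exists_cls f g t Z
      obtain ⟨m, hm⟩ := hV.exists_isTriv
      obtain ⟨v', hv'⟩ := exists_corr ha' hm hw
      obtain ⟨w, hwz, hv⟩ := exists_point ha hm ((η.app V).toEquiv.symm v')
      let e : Spec (CommRingCat.of L) ⟶ E := pullback.lift (pullback.lift w t hwz) ξ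
        (pullback.lift_snd _ _ _)
      have e₀ : e ≫ q = pullback.lift w t hwz := pullback.lift_fst _ _ _
      have e₂ : e ≫ q' = ξ := pullback.lift_snd _ _ _
      have he : P e := by
        have h0 : e ≫ π = t := by rw [← hπ', ← Category.assoc, e₂]
        have h1 : e ≫ z = w := (Category.assoc _ _ _).symm.trans
          ((congrArg (· ≫ _) e₀).trans (pullback.lift_fst _ _ _))
        have h2 : e ≫ z' = ξ ≫ pullback.fst _ _ :=
          (Category.assoc _ _ _).symm.trans (congrArg (· ≫ _) e₂)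
        simp only [P, h0, h1, h2]
        refine (rel_iff_relVia ha ha' η.hom hm hwz hw).2 fun u u' hu hu' => ?_
        rw [hu.unique ha hm hv, hu'.unique ha' hm hv']
        exact (η.app V).toEquiv.apply_symm_apply v'
      obtain ⟨ζ, hζ⟩ := hlift e he
      exact ⟨ζ, by rw [← Category.assoc, hζ, e₂]⟩
  refine ⟨MorphismProperty.Over.isoMk ((asIso (U.ι ≫ q)).symm ≪≫ asIso (U.ι ≫ q')) ?_⟩
  change (inv (U.ι ≫ q) ≫ U.ι ≫ q') ≫ p' = p
  rw [Category.assoc, Category.assoc, hπ', IsIso.inv_comp_eq, Category.assoc]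

end Groth.Pi1PBC
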