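import Groth.Agent.Pi1Hensel.SepClosed
import Groth.Agent.HTopHyper.ValLift
import Groth.Agent.HTopHyper.ValPoint
import Groth.Agent.EtaleBase.NormalStalk
import Groth.Agent.Pi1FEt.Points
import Mathlib.RingTheory.Valuation.LocalSubring
import Mathlib.AlgebraicGeometry.Noetherian

/-!
# Specialisations realised by valuation rings with algebraically closed fields, and clopen sets
-/

universe u

set_option autoImplicit false
set_option backward.isDefEq.respectTransparency false
set_option linter.style.haveILetI false

open CategoryTheory Limits AlgebraicGeometry TopologicalSpace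

namespace Groth.Pi1PBC

open IsLocalRing

/-- A set stable under specialisation and generalisation in a locally Noetherian scheme is open. -/
theorem isOpen_of_stable {C : Scheme.{u}} [IsLocallyNoetherian C] {S : Set ↥C}
    (hS : ∀ x y : ↥C, x ⤳ y → (x ∈ S ↔ y ∈ S)) : IsOpen S := by
  rw [isOpen_iff_forall_mem_open]
  intro x hx
  obtain ⟨U, hU, hxU, -⟩ := exists_isAffineOpen_mem_and_subset (U := (⊤ : C.Opens)) (x := x) trivial
  haveI : IsAffine U.toScheme := hU
  haveI : IsLocallyNoetherian U.toScheme := isLocallyNoetherian_of_isOpenImmersion U.ι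
  haveI : IsNoetherian U.toScheme := {}
  haveI : NoetherianSpace ↥U.toScheme := inferInstance
  let x' : ↥U.toScheme := ⟨x, hxU⟩
  let bad : Set (Set ↥U.toScheme) := {Z | Z ∈ irreducibleComponents ↥U.toScheme ∧ x' ∉ Z}
  have hfin : bad.Finite := NoetherianSpace.finite_irreducibleComponents.subset fun Z hZ => hZ.1
  have hcl : IsClosed (⋃₀ bad) := by
    rw [Set.sUnion_eq_biUnion]
    exact hfin.isClosed_biUnion fun Z hZ => isClosed_of_mem_irreducibleComponents Z hZ.1
  refine ⟨U.ι.base '' (⋃₀ bad)ᶜ, ?_, (U.ι.isOpenEmbedding.isOpenMap _ hcl.isOpen_compl), ?_⟩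
  · rintro _ ⟨y, hy, rfl⟩
    have hZ := irreducibleComponent_mem_irreducibleComponents y
    have hxZ : x' ∈ irreducibleComponent y := by
      by_contra h
      exact hy ⟨_, ⟨hZ, h⟩, mem_irreducibleComponent⟩
    obtain ⟨η, hη⟩ := QuasiSober.sober hZ.1 (isClosed_of_mem_irreducibleComponents _ hZ)
    exact (hS _ _ ((hη.specializes mem_irreducibleComponent).map U.ι.continuous)).1
      ((hS _ _ ((hη.specializes hxZ).map U.ι.continuous)).2 hx)
  · exact ⟨x', by rintro ⟨Z, hZ, hxZ⟩; exact hZ.2 hxZ, rfl⟩

/-- A set stable under specialisation and generalisation in a locally Noetherian scheme is clopen. -/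
theorem isClopen_of_stable {C : Scheme.{u}} [IsLocallyNoetherian C] {S : Set ↥C}
    (hS : ∀ x y : ↥C, x ⤳ y → (x ∈ S ↔ y ∈ S)) : IsClopen S :=
  ⟨⟨isOpen_of_stable (S := Sᶜ) fun x y h => not_congr (hS x y h)⟩, isOpen_of_stable hS⟩

/-- The residue field of a valuation subring of an algebraically closed field is algebraically closed. -/
theorem isAlgClosed_residueField {K : Type u} [Field K] [IsAlgClosed K] (O : ValuationSubring K) :
    IsAlgClosed (ResidueField O) :=
  IsAlgClosed.of_exists_root _ fun p hp hirr => by
    obtain ⟨q, hq, hd, hqm⟩ := Polynomial.lifts_and_natDegree_eq_and_monic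
      ((Polynomial.lifts_iff_coeff_lifts (f := residue O) p).mpr fun n => residue_surjective _) hp
    obtain ⟨a, ha⟩ := Groth.HTopHyper.exists_root_of_monic (W := O) K hqm
      (by rw [hd]; exact hirr.natDegree_pos.ne')
    refine ⟨residue O a, ?_⟩
    rw [← hq, Polynomial.eval_map, Polynomial.eval₂_at_apply, show q.eval a = 0 from ha, map_zero]

/-- A specialisation is realised by a henselian local ring with algebraically closed residue field
and a point with values in an algebraically closed field. -/
theorem exists_specData {C : Scheme.{u}} {x s : ↥C} (h : x ⤳ s) :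
    ∃ (O : Type u) (_ : CommRing O) (_ : IsDomain O) (_ : HenselianLocalRing O)
      (_ : IsAlgClosed (ResidueField O)) (K : Type u) (_ : Field K) (_ : IsAlgClosed K)
      (ι : O →+* K) (t : Spec (CommRingCat.of O) ⟶ C),
      (Spec.map (CommRingCat.ofHom ι) ≫ t) default = x ∧
      (Spec.map (CommRingCat.ofHom (residue O)) ≫ t) default = s := by
  obtain ⟨W, _, _, l, hl₁, hl₂⟩ := Groth.HTopHyper.exists_valRing h
  let K := AlgebraicClosure (FractionRing W)
  let χ : W →+* K := (algebraMap (FractionRing W) K).comp (algebraMap W (FractionRing W))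
  have hχi : Function.Injective χ :=
    (algebraMap (FractionRing W) K).injective.comp (IsFractionRing.injective W (FractionRing W))
  let r : W →+* χ.range := χ.rangeRestrict
  have hr : Function.Bijective r :=
    ⟨fun a b e => hχi (congrArg Subtype.val e), χ.rangeRestrict_surjective⟩
  let e : W ≃+* χ.range := RingEquiv.ofBijective r hr
  obtain ⟨O, hSO, hI⟩ := ((maximalIdeal W).comap e.symm.toRingHom).image_subset_nonunits_valuationSubring
    (K := K) (Ideal.comap_ne_top _ (maximalIdeal.isMaximal _).ne_top)
  haveI : IsSepClosed (FractionRing O) :=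
    Groth.EtaleBase.NormalEt.isSepClosed_of_ringEquiv (FractionRing.algEquiv O K).toRingEquiv.symm
  haveI : HenselianLocalRing O := Groth.Pi1Hensel.henselianLocalRing O
  haveI := isAlgClosed_residueField O
  let χO : W →+* O := (Subring.inclusion hSO).comp r
  haveI : IsLocalHom χO := by
    refine ⟨fun a ha => by_contra fun hna => ?_⟩
    have h1 : χ a ∈ O.nonunits := hI ⟨r a, by
      change e.symm (e a) ∈ maximalIdeal W
      rw [RingEquiv.symm_apply_apply]
      exact hna, rfl⟩
    exact ValuationSubring.coe_mem_nonunits_iff.1 h1 ha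
  refine ⟨O, inferInstance, inferInstance, inferInstance, inferInstance, K, inferInstance,
    inferInstance, O.subtype, Spec.map (CommRingCat.ofHom χO) ≫ l, ?_, ?_⟩
  · rw [← Category.assoc, ← Spec.map_comp, Scheme.Hom.comp_apply, ← hl₁]
    congr 1
    rw [Subsingleton.elim default (Groth.HTopHyper.genPt (CommRingCat.of K))]
    exact (Groth.HTopHyper.specMap_genPt_iff _).2 (Subtype.val_injective.comp
      fun a b e => hr.1 ((Subring.inclusion_injective hSO) e))
  · rw [← Category.assoc, ← Spec.map_comp, Scheme.Hom.comp_apply, ← hl₂]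
    congr 1
    rw [Subsingleton.elim default (Groth.HTopHyper.clPt (CommRingCat.of (ResidueField O)))]
    exact (Groth.HTopHyper.specMap_closedPoint_iff _).2
      (inferInstanceAs (IsLocalHom ((residue O).comp χO)))

end Groth.Pi1PBC
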