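import Groth.Agent.Pi1PBC.Points
import Groth.Agent.Pi1PBC.SpecData
import Groth.Agent.Pi1PBC.Rigid
import Groth.Agent.Pi1FEt.Components
import Mathlib

/-!
# Products with a proper factor: sections of finite etale covers over a slice extend

If `X` is proper and connected over an algebraically closed field, a section over `{a} × C` of a
finite etale cover of `X × C` extends to a section as soon as it extends on every geometric fibre.
-/

universe u

set_option autoImplicit false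
set_option backward.isDefEq.respectTransparency false
set_option linter.style.haveILetI false

open CategoryTheory Limits AlgebraicGeometry TopologicalSpace IsLocalRing

namespace Groth.Pi1PBC

variable {k : Type u} [Field k] [IsAlgClosed k] {X C : Scheme.{u}}
  (f : X ⟶ Spec (CommRingCat.of k)) (g : C ⟶ Spec (CommRingCat.of k))

/-- Fibres of a connected scheme over an algebraically closed field are connected. -/
theorem connectedSpace_fib [ConnectedSpace X] {Ω : Type u} [Field Ω] (t : Spec (CommRingCat.of Ω) ⟶ C) :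
    ConnectedSpace ↥(fib f g t) := by
  obtain ⟨φ, hφ⟩ := Spec.map_surjective (t ≫ g)
  letI : Algebra k Ω := φ.hom.toAlgebra
  have e : t ≫ g = Spec.map (CommRingCat.ofHom (algebraMap k Ω)) := hφ.symm
  show ConnectedSpace ↥(pullback f (t ≫ g))
  rw [e]
  have hb := clopenBij_field (K := Ω) f
  haveI : Surjective (Spec.map (CommRingCat.ofHom (algebraMap k Ω))) :=
    ⟨fun _ => ⟨default, Subsingleton.elim _ _⟩⟩
  haveI : Surjective (pullback.fst f (Spec.map (CommRingCat.ofHom (algebraMap k Ω)))) :=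
    MorphismProperty.pullback_fst _ _ inferInstance
  refine connectedSpace_iff_clopen.2 ⟨?_, fun V hV => ?_⟩
  · obtain ⟨z, -⟩ := (pullback.fst f (Spec.map (CommRingCat.ofHom (algebraMap k Ω)))).surjective
      (Classical.arbitrary ↥X)
    exact ⟨z⟩
  · obtain ⟨U, ⟨hU, hUV⟩, -⟩ := hb V hV
    rcases isClopen_iff.1 hU with h | h
    · left; rw [← hUV, h]; rfl
    · right; rw [← hUV, h]; rfl

variable {R : FEt.Cat (pullback f g)} {a : Spec (CommRingCat.of k) ⟶ X} (ha : a ≫ f = 𝟙 _)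
  (s : C ⟶ R.left)

/-- A section of the family at `t` through the given point over the slice. -/
def IsSec {T : Scheme.{u}} (t : T ⟶ C) (σ : fib f g t ⟶ R.left) : Prop :=
  σ ≫ R.hom = fibJ f g t ∧ sct ha t ≫ σ = t ≫ s

theorem IsSec.comp {T' T : Scheme.{u}} {t : T ⟶ C} {σ : fib f g t ⟶ R.left} (h : IsSec f g ha s t σ)
    (c : T' ⟶ T) : IsSec f g ha s (c ≫ t) (fibC f g c t ≫ σ) := by
  refine ⟨by rw [Category.assoc, h.1, fibC_fibJ], ?_⟩
  rw [← Category.assoc, sct_fibC, Category.assoc, h.2, Category.assoc]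

theorem IsSec.eq [ConnectedSpace X] {Ω : Type u} [Field Ω] {t : Spec (CommRingCat.of Ω) ⟶ C}
    {σ σ' : fib f g t ⟶ R.left} (h : IsSec f g ha s t σ) (h' : IsSec f g ha s t σ') : σ = σ' := by
  haveI : IsFinite R.hom := R.prop.1
  haveI : Etale R.hom := R.prop.2
  haveI := connectedSpace_fib f g t
  exact Pi1Etale.eq_of_comp_eq_of_connected R.hom σ σ' (h.1.trans h'.1.symm) (sct ha t)
    (h.2.trans h'.2.symm)

/-- The point of the fibre under a point of the family. -/
noncomputable def fibPt {T : Scheme.{u}} (q : T ⟶ pullback f g) : T ⟶ fib f g (q ≫ pullback.snd f g) :=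
  pullback.lift (q ≫ pullback.fst f g) (𝟙 T)
    (by simp only [Category.assoc, Category.id_comp, pullback.condition])

theorem fibPt_fibJ {T : Scheme.{u}} (q : T ⟶ pullback f g) :
    fibPt f g q ≫ fibJ f g (q ≫ pullback.snd f g) = q := by
  apply pullback.hom_ext <;> simp [fibPt] <;> exact Category.id_comp _

theorem exists_fibPt_trans {T' T : Scheme.{u}} (c : T' ⟶ T) (q : T ⟶ pullback f g)
    {σ : fib f g (q ≫ pullback.snd f g) ⟶ R.left} (h : IsSec f g ha s (q ≫ pullback.snd f g) σ) :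
    ∃ σ', IsSec f g ha s ((c ≫ q) ≫ pullback.snd f g) σ' ∧
      fibPt f g (c ≫ q) ≫ σ' = c ≫ fibPt f g q ≫ σ := by
  have e : (c ≫ q) ≫ pullback.snd f g = c ≫ (q ≫ pullback.snd f g) := Category.assoc _ _ _
  let ψ : fib f g ((c ≫ q) ≫ pullback.snd f g) ⟶ fib f g (q ≫ pullback.snd f g) :=
    pullback.lift (pullback.fst f _) (pullback.snd f _ ≫ c)
      (calc
        pullback.fst f _ ≫ f = pullback.snd f _ ≫ ((c ≫ q) ≫ pullback.snd f g) ≫ g := pullback.condition
        _ = (pullback.snd f _ ≫ c) ≫ (q ≫ pullback.snd f g) ≫ g := by simp only [Category.assoc])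
  refine ⟨ψ ≫ σ, ⟨?_, ?_⟩, ?_⟩
  · refine (Category.assoc ψ σ R.hom).trans ?_
    rw [h.1]
    apply pullback.hom_ext <;> simp [ψ]
  · have : sct ha ((c ≫ q) ≫ pullback.snd f g) ≫ ψ = c ≫ sct ha (q ≫ pullback.snd f g) := by
      apply pullback.hom_ext <;> simp [ψ, sct] <;> exact Category.id_comp _
    refine (Category.assoc _ ψ σ).symm.trans ((congrArg (· ≫ σ) this).trans ?_)
    refine (Category.assoc c _ σ).trans ((congrArg (c ≫ ·) h.2).trans ?_)
    simp only [Category.assoc]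
  · refine (Category.assoc _ ψ σ).symm.trans (Eq.trans ?_ (Category.assoc c _ σ))
    refine congrArg (· ≫ σ) ?_
    apply pullback.hom_ext <;> simp [ψ, fibPt] <;> exact Category.id_comp _

/-- A point of the family lies on the section through the given point over the slice. -/
def OnSec {T : Scheme.{u}} (ρ : T ⟶ R.left) : Prop :=
  ∃ σ, IsSec f g ha s ((ρ ≫ R.hom) ≫ pullback.snd f g) σ ∧ fibPt f g (ρ ≫ R.hom) ≫ σ = ρ

theorem onSec_iff [ConnectedSpace X] {Ω : Type u} [Field Ω] {T : Scheme.{u}}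
    {ρ : Spec (CommRingCat.of Ω) ⟶ R.left} (c : Spec (CommRingCat.of Ω) ⟶ T) (q : T ⟶ pullback f g)
    (hq : c ≫ q = ρ ≫ R.hom)
    {σ : fib f g (q ≫ pullback.snd f g) ⟶ R.left} (hσ : IsSec f g ha s (q ≫ pullback.snd f g) σ) :
    OnSec f g ha s ρ ↔ c ≫ fibPt f g q ≫ σ = ρ := by
  obtain ⟨σ', hσ', he⟩ := exists_fibPt_trans f g ha s c q hσ
  rw [← he]
  unfold OnSec
  rw [← hq]
  exact ⟨fun ⟨σ'', h'', e''⟩ => by rw [hσ'.eq f g ha s h'']; exact e'', fun h => ⟨σ', hσ', h⟩⟩

variable (hsec : ∀ (Ω : Type u) [Field Ω] [IsAlgClosed Ω] (t : Spec (CommRingCat.of Ω) ⟶ C),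
    ∃ σ, IsSec f g ha s t σ)

include hsec

theorem onSec_comp_iff [ConnectedSpace X] {Ω Ω' : Type u} [Field Ω] [IsAlgClosed Ω] [Field Ω']
    (c : Spec (CommRingCat.of Ω') ⟶ Spec (CommRingCat.of Ω)) (ρ : Spec (CommRingCat.of Ω) ⟶ R.left) :
    OnSec f g ha s (c ≫ ρ) ↔ OnSec f g ha s ρ := by
  haveI : IsFinite R.hom := R.prop.1
  haveI : Etale R.hom := R.prop.2
  obtain ⟨σ, hσ⟩ := hsec Ω ((ρ ≫ R.hom) ≫ pullback.snd f g)
  haveI : ConnectedSpace ↥(Spec (CommRingCat.of Ω)) := connectedSpace_spec Ω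
  rw [onSec_iff f g ha s c (ρ ≫ R.hom) (Category.assoc _ _ _).symm hσ,
    onSec_iff f g ha s (𝟙 _) (ρ ≫ R.hom) (Category.id_comp _) hσ, Category.id_comp]
  refine ⟨fun h => Pi1Etale.eq_of_comp_eq_of_connected R.hom _ _ ?_ c h, fun h => by rw [h]⟩
  rw [Category.assoc, hσ.1, fibPt_fibJ]

theorem exists_isSec_spec [IsProper f] (hs : s ≫ R.hom = slice f g ha) {O : Type u} [CommRing O]
    [HenselianLocalRing O] [IsAlgClosed (ResidueField O)] (t : Spec (CommRingCat.of O) ⟶ C) :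
    ∃ σ, IsSec f g ha s t σ := by
  haveI : IsFinite R.hom := R.prop.1
  haveI : Etale R.hom := R.prop.2
  haveI := connectedSpace_spec O
  let c₀ := Spec.map (CommRingCat.ofHom (residue O))
  let pf := pullback.snd f (t ≫ g)
  haveI : IsProper pf := MorphismProperty.pullback_snd _ _ inferInstance
  let j := pullback.fst pf c₀
  haveI : (FEt.restrict j).Full := (fullyFaithful_henselian (maximalIdeal O) pf).1
  obtain ⟨σ₀, hσ₀⟩ := hsec (ResidueField O) (c₀ ≫ t)
  have hj : j ≫ pf = pullback.snd pf c₀ ≫ c₀ := pullback.condition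
  let l : pullback pf c₀ ⟶ fib f g (c₀ ≫ t) :=
    pullback.lift (j ≫ fibP f g t) (pullback.snd _ _) (calc
      (j ≫ fibP f g t) ≫ f = j ≫ (fibP f g t ≫ f) := Category.assoc _ _ _
      _ = j ≫ (pf ≫ t ≫ g) := congrArg (j ≫ ·) pullback.condition
      _ = (pullback.snd pf c₀ ≫ c₀) ≫ t ≫ g := by rw [← hj]; exact (Category.assoc _ _ _).symm
      _ = pullback.snd pf c₀ ≫ (c₀ ≫ t) ≫ g := by simp only [Category.assoc])
  have hl : l ≫ fibC f g c₀ t = j := by
    apply pullback.hom_ext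
    · simp [l, fibC, j]
    · simp only [l, fibC, Category.assoc, pullback.lift_snd, pullback.lift_snd_assoc]
      exact pullback.condition.symm
  let one : FEt.Cat (fib f g t) := MorphismProperty.Over.mk ⊤ (𝟙 _) ⟨inferInstance, inferInstance⟩
  let Rt := (FEt.restrict (fibJ f g t)).obj R
  let b : pullback one.hom j ⟶ pullback R.hom (fibJ f g t) :=
    pullback.lift (pullback.snd one.hom j ≫ l ≫ σ₀) (pullback.snd one.hom j ≫ j) (calc
      (pullback.snd one.hom j ≫ l ≫ σ₀) ≫ R.hom = pullback.snd one.hom j ≫ l ≫ σ₀ ≫ R.hom := by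
        simp only [Category.assoc]
      _ = pullback.snd one.hom j ≫ (l ≫ fibC f g c₀ t) ≫ fibJ f g t := by
        rw [hσ₀.1, ← fibC_fibJ]; simp only [Category.assoc]
      _ = (pullback.snd one.hom j ≫ j) ≫ fibJ f g t := by rw [hl]; simp only [Category.assoc])
  let b' : pullback one.hom j ⟶ pullback Rt.hom j :=
    pullback.lift b (pullback.snd one.hom j) (pullback.lift_snd _ _ _)
  let φ₀ : (FEt.restrict j).obj one ⟶ (FEt.restrict j).obj Rt :=
    MorphismProperty.Over.homMk b' (pullback.lift_snd _ _ _)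
  obtain ⟨φ, hφ⟩ := (FEt.restrict j).map_surjective φ₀
  let φL : pullback f (t ≫ g) ⟶ pullback R.hom (fibJ f g t) := φ.left
  let σ : fib f g t ⟶ R.left := φL ≫ pullback.fst R.hom (fibJ f g t)
  have hw : φL ≫ pullback.snd R.hom (fibJ f g t) = 𝟙 _ := MorphismProperty.Over.w φ
  have hσ1 : σ ≫ R.hom = fibJ f g t := by
    refine (Category.assoc _ _ _).trans ((congrArg (φL ≫ ·) pullback.condition).trans ?_)
    exact (Category.assoc _ _ _).symm.trans ((congrArg (· ≫ fibJ f g t) hw).trans (Category.id_comp _))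
  let pj : pullback one.hom j ⟶ pullback f (t ≫ g) := pullback.fst one.hom j
  let qj : pullback Rt.hom j ⟶ pullback R.hom (fibJ f g t) := pullback.fst Rt.hom j
  have h1 : pj ≫ φL = b' ≫ qj :=
    (Pi1FEt.restrict_map_left_fst φ j).symm.trans
      (congrArg (fun ψ : (FEt.restrict j).obj one ⟶ (FEt.restrict j).obj Rt =>
        ψ.left ≫ pullback.fst Rt.hom j) hφ)
  let u : pullback pf c₀ ⟶ pullback one.hom j := pullback.lift j (𝟙 _)
    ((Category.comp_id _).trans (Category.id_comp _).symm)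
  have hu : u ≫ pj = j := pullback.lift_fst _ _ _
  have hb : b' ≫ qj = b := pullback.lift_fst _ _ _
  have hb1 : b ≫ pullback.fst R.hom (fibJ f g t) = pullback.snd one.hom j ≫ l ≫ σ₀ :=
    pullback.lift_fst _ _ _
  have hu2 : u ≫ pullback.snd one.hom j = 𝟙 _ := pullback.lift_snd _ _ _
  have hjσ : j ≫ σ = l ≫ σ₀ := calc
    j ≫ σ = (u ≫ pj) ≫ φL ≫ pullback.fst R.hom (fibJ f g t) := by rw [hu]
    _ = u ≫ (pj ≫ φL) ≫ pullback.fst R.hom (fibJ f g t) := by simp only [Category.assoc]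
    _ = u ≫ pullback.snd one.hom j ≫ l ≫ σ₀ := by rw [h1, hb, hb1]
    _ = l ≫ σ₀ := by rw [← Category.assoc, hu2, Category.id_comp]
  refine ⟨σ, hσ1, Pi1Etale.eq_of_comp_eq_of_connected R.hom _ _ ?_ c₀ ?_⟩
  · rw [Category.assoc, hσ1, sct_fibJ, Category.assoc, hs]
  · let v : Spec (CommRingCat.of (ResidueField O)) ⟶ pullback pf c₀ :=
      pullback.lift (c₀ ≫ sct ha t) (𝟙 _) (by simp [pf, sct])
    have hv : v ≫ l = sct ha (c₀ ≫ t) := by
      apply pullback.hom_ext <;> simp [v, l, j, sct]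
    have h2 : v ≫ j = c₀ ≫ sct ha t := pullback.lift_fst _ _ _
    have e1 : (c₀ ≫ sct ha t) ≫ σ = v ≫ (j ≫ σ) :=
      (congrArg (fun m => m ≫ σ) h2.symm).trans (Category.assoc v j σ)
    have e2 : v ≫ (j ≫ σ) = (v ≫ l) ≫ σ₀ :=
      (congrArg (fun m => v ≫ m) hjσ).trans (Category.assoc v l σ₀).symm
    have e3 : (v ≫ l) ≫ σ₀ = (c₀ ≫ t) ≫ s := (congrArg (fun m => m ≫ σ₀) hv).trans hσ₀.2
    exact (Category.assoc c₀ _ σ).symm.trans (e1.trans (e2.trans (e3.trans (Category.assoc c₀ t s))))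

theorem onSec_spec_iff [ConnectedSpace X] [IsProper f] (hs : s ≫ R.hom = slice f g ha) {O : Type u}
    [CommRing O] [HenselianLocalRing O] [IsAlgClosed (ResidueField O)] {K : Type u} [Field K]
    [IsAlgClosed K] (ι : O →+* K) (τ : Spec (CommRingCat.of O) ⟶ R.left) :
    OnSec f g ha s (Spec.map (CommRingCat.ofHom ι) ≫ τ) ↔
      OnSec f g ha s (Spec.map (CommRingCat.ofHom (residue O)) ≫ τ) := by
  haveI : IsFinite R.hom := R.prop.1
  haveI : Etale R.hom := R.prop.2
  haveI := connectedSpace_spec O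
  obtain ⟨σ, hσ⟩ := exists_isSec_spec f g ha s hsec hs ((τ ≫ R.hom) ≫ pullback.snd f g)
  have key : ∀ {Ω : Type u} [Field Ω] (c : Spec (CommRingCat.of Ω) ⟶ Spec (CommRingCat.of O)),
      OnSec f g ha s (c ≫ τ) ↔ fibPt f g (τ ≫ R.hom) ≫ σ = τ := by
    intro Ω _ c
    rw [onSec_iff f g ha s c (τ ≫ R.hom) (Category.assoc _ _ _).symm hσ]
    refine ⟨fun h => Pi1Etale.eq_of_comp_eq_of_connected R.hom _ _ ?_ c h, fun h => by rw [h]⟩
    rw [Category.assoc, hσ.1, fibPt_fibJ]
  rw [key, key]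

/-- Sections over a slice extend when they extend on every geometric fibre. -/
theorem exists_section_of_slice [ConnectedSpace X] [IsProper f] [IsLocallyNoetherian C]
    (hs : s ≫ R.hom = slice f g ha) :
    ∃ S : pullback f g ⟶ R.left, S ≫ R.hom = 𝟙 _ ∧ slice f g ha ≫ S = s := by
  haveI : IsFinite R.hom := R.prop.1
  haveI : Etale R.hom := R.prop.2
  haveI : LocallyOfFiniteType (pullback.snd f g) := MorphismProperty.pullback_snd _ _ inferInstance
  haveI : IsLocallyNoetherian (pullback f g) :=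
    LocallyOfFiniteType.isLocallyNoetherian (pullback.snd f g)
  let r : R.left ⟶ pullback f g := R.hom
  haveI : LocallyOfFiniteType r := inferInstanceAs (LocallyOfFiniteType R.hom)
  haveI : IsLocallyNoetherian R.left := LocallyOfFiniteType.isLocallyNoetherian r
  let T : Set ↥R.left := {r | ∃ (Ω : Type u) (_ : Field Ω) (_ : IsAlgClosed Ω)
    (ρ : Spec (CommRingCat.of Ω) ⟶ R.left), ρ default = r ∧ OnSec f g ha s ρ}
  have hall : ∀ {Ω : Type u} [Field Ω] [IsAlgClosed Ω] (ρ : Spec (CommRingCat.of Ω) ⟶ R.left),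
      ρ default ∈ T ↔ OnSec f g ha s ρ := by
    intro Ω _ _ ρ
    refine ⟨fun ⟨Ω', _, _, ρ', he, h'⟩ => ?_,
      fun h => ⟨Ω, inferInstance, inferInstance, ρ, rfl, h⟩⟩
    obtain ⟨L, _, _, c, c', hc⟩ := exists_common ρ ρ' he.symm
    rw [← onSec_comp_iff f g ha s hsec c, hc, onSec_comp_iff f g ha s hsec c']
    exact h'
  have hT : IsClopen T := isClopen_of_stable fun x y hxy => by
    obtain ⟨O, _, _, _, _, K, _, _, ι, τ, hx, hy⟩ := exists_specData hxy
    rw [← hx, ← hy, hall, hall]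
    exact onSec_spec_iff f g ha s hsec hs ι τ
  let P₀ := Pi1FEt.clopenCover T hT
  let π : P₀.left ⟶ pullback f g := P₀.hom ≫ r
  haveI : IsFinite P₀.hom := P₀.prop.1
  haveI : Etale P₀.hom := P₀.prop.2
  haveI : IsOpenImmersion P₀.hom := inferInstanceAs (IsOpenImmersion (Scheme.Opens.ι _))
  haveI : IsFinite r := R.prop.1
  haveI : Etale r := R.prop.2
  haveI : IsFinite π := inferInstance
  haveI : Etale π := inferInstance
  have hmem : ∀ {Ω : Type u} [Field Ω] [IsAlgClosed Ω] (x : Spec (CommRingCat.of Ω) ⟶ P₀.left),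
      OnSec f g ha s (x ≫ P₀.hom) := fun x => (hall _).1 (by
    rw [← Pi1FEt.range_clopenCover T hT]
    exact ⟨x default, rfl⟩)
  haveI : IsIso π := by
    refine isIso_of_geomPoints π (fun Ω _ _ x₁ x₂ e => ?_) (fun Ω _ _ ξ => ?_)
    · obtain ⟨σ, hσ⟩ := hsec Ω ((x₁ ≫ π) ≫ pullback.snd f g)
      have h₁ := (onSec_iff f g ha s (𝟙 _) (x₁ ≫ π)
        (by rw [Category.id_comp]; exact (Category.assoc _ _ _).symm) hσ).1 (hmem x₁)
      have h₂ := (onSec_iff f g ha s (𝟙 _) (x₁ ≫ π)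
        (by rw [Category.id_comp, e]; exact (Category.assoc _ _ _).symm) hσ).1 (hmem x₂)
      exact (cancel_mono P₀.hom).1 (h₁.symm.trans h₂)
    · obtain ⟨σ, hσ⟩ := hsec Ω (ξ ≫ pullback.snd f g)
      let ρ := fibPt f g ξ ≫ σ
      have hρ : ρ ≫ R.hom = ξ := by rw [Category.assoc, hσ.1, fibPt_fibJ]
      have hρT : OnSec f g ha s ρ :=
        (onSec_iff f g ha s (𝟙 _) ξ (by rw [Category.id_comp, hρ]) hσ).2 (Category.id_comp _)
      have hr : Set.range ρ.base ⊆ Set.range P₀.hom.base := by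
        rw [Pi1FEt.range_clopenCover]
        rintro _ ⟨z, rfl⟩
        rw [Subsingleton.elim z default]
        exact (hall ρ).2 hρT
      refine ⟨IsOpenImmersion.lift P₀.hom ρ hr, ?_⟩
      show IsOpenImmersion.lift P₀.hom ρ hr ≫ P₀.hom ≫ R.hom = ξ
      rw [IsOpenImmersion.lift_fac_assoc, hρ]
  refine ⟨inv π ≫ P₀.hom, ?_, ?_⟩
  · rw [Category.assoc]
    exact IsIso.inv_hom_id π
  · have hr : Set.range s.base ⊆ Set.range P₀.hom.base := by
      rw [Pi1FEt.range_clopenCover]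
      rintro _ ⟨y, rfl⟩
      obtain ⟨Ω, _, _, t, ht⟩ := Pi1FEt.exists_geomPoint y
      rw [← ht, ← Scheme.Hom.comp_apply, hall]
      obtain ⟨σ, hσ⟩ := hsec Ω ((t ≫ slice f g ha) ≫ pullback.snd f g)
      rw [onSec_iff f g ha s (𝟙 _) (t ≫ slice f g ha)
        (by rw [Category.id_comp, Category.assoc, hs]) hσ, Category.id_comp]
      have h1 : fibPt f g (t ≫ slice f g ha) = sct ha ((t ≫ slice f g ha) ≫ pullback.snd f g) := by
        apply pullback.hom_ext <;> simp [fibPt, sct, slice]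
      rw [h1, hσ.2]
      simp [slice]
    have h1 : slice f g ha = IsOpenImmersion.lift P₀.hom s hr ≫ π := by
      show _ = _ ≫ P₀.hom ≫ R.hom
      rw [IsOpenImmersion.lift_fac_assoc, hs]
    rw [h1, Category.assoc, IsIso.hom_inv_id_assoc, IsOpenImmersion.lift_fac]

end Groth.Pi1PBC
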