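import Groth.Agent.Pi1PBC.FieldExt
import Groth.Agent.Pi1PBC.SpecData
import Groth.Agent.Pi1FEt.Colimits

/-!
# Families of finite etale covers of a proper scheme over a field: fibrewise trivialisations
-/

universe u

set_option autoImplicit false
set_option backward.isDefEq.respectTransparency false
set_option backward.defeqAttrib.useBackward true
set_option linter.style.haveILetI false

open CategoryTheory Limits AlgebraicGeometry IsLocalRing

namespace Groth.Pi1PBC

variable {k : Type u} [Field k] {X C : Scheme.{u}}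
  (f : X ⟶ Spec (CommRingCat.of k)) (g : C ⟶ Spec (CommRingCat.of k))

/-- The fibre of the family at a point with values in `T`. -/
noncomputable abbrev fib {T : Scheme.{u}} (t : T ⟶ C) : Scheme.{u} := pullback f (t ≫ g)

/-- The projection of the fibre to the constant factor. -/
noncomputable abbrev fibP {T : Scheme.{u}} (t : T ⟶ C) : fib f g t ⟶ X := pullback.fst f (t ≫ g)

/-- The map of the fibre to the total space. -/
noncomputable def fibJ {T : Scheme.{u}} (t : T ⟶ C) : fib f g t ⟶ pullback f g :=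
  pullback.lift (pullback.fst _ _) (pullback.snd _ _ ≫ t)
    (by rw [Category.assoc]; exact pullback.condition)

@[reassoc (attr := simp)]
theorem fibJ_fst {T : Scheme.{u}} (t : T ⟶ C) : fibJ f g t ≫ pullback.fst f g = fibP f g t :=
  pullback.lift_fst _ _ _

@[reassoc (attr := simp)]
theorem fibJ_snd {T : Scheme.{u}} (t : T ⟶ C) :
    fibJ f g t ≫ pullback.snd f g = pullback.snd f (t ≫ g) ≫ t :=
  pullback.lift_snd _ _ _

/-- The map between fibres along a change of the parameter. -/
noncomputable def fibC {T' T : Scheme.{u}} (c : T' ⟶ T) (t : T ⟶ C) : fib f g (c ≫ t) ⟶ fib f g t :=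
  pullback.lift (pullback.fst _ _) (pullback.snd _ _ ≫ c)
    (by simp only [Category.assoc]; rw [pullback.condition]; simp)

@[reassoc (attr := simp)]
theorem fibC_fst {T' T : Scheme.{u}} (c : T' ⟶ T) (t : T ⟶ C) :
    fibC f g c t ≫ fibP f g t = fibP f g (c ≫ t) := pullback.lift_fst _ _ _

@[reassoc (attr := simp)]
theorem fibC_snd {T' T : Scheme.{u}} (c : T' ⟶ T) (t : T ⟶ C) :
    fibC f g c t ≫ pullback.snd f (t ≫ g) = pullback.snd f ((c ≫ t) ≫ g) ≫ c := pullback.lift_snd _ _ _

@[reassoc]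
theorem fibC_fibJ {T' T : Scheme.{u}} (c : T' ⟶ T) (t : T ⟶ C) :
    fibC f g c t ≫ fibJ f g t = fibJ f g (c ≫ t) := by
  apply pullback.hom_ext <;> simp

variable (Z : FEt.Cat (pullback f g))

/-- An identification of a fibre of `Z` with the pullback of a cover of the constant factor. -/
def IsTriv {T : Scheme.{u}} (t : T ⟶ C) (V : FEt.Cat X) (m : pullback V.hom (fibP f g t) ⟶ Z.left) :
    Prop :=
  IsPullback m (pullback.snd V.hom (fibP f g t)) Z.hom (fibJ f g t)

/-- The map between pullbacks along a change of the parameter. -/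
noncomputable def mapC {T' T : Scheme.{u}} (c : T' ⟶ T) (t : T ⟶ C) (V : FEt.Cat X) :
    pullback V.hom (fibP f g (c ≫ t)) ⟶ pullback V.hom (fibP f g t) :=
  pullback.lift (pullback.fst _ _) (pullback.snd _ _ ≫ fibC f g c t)
    (by simp only [Category.assoc, fibC_fst]; exact pullback.condition)

theorem isPullback_mapC {T' T : Scheme.{u}} (c : T' ⟶ T) (t : T ⟶ C) (V : FEt.Cat X) :
    IsPullback (mapC f g c t V) (pullback.snd V.hom (fibP f g (c ≫ t)))
      (pullback.snd V.hom (fibP f g t)) (fibC f g c t) := by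
  refine (IsPullback.of_right ?_ (pullback.lift_snd _ _ _) (IsPullback.of_hasPullback V.hom (fibP f g t)))
  rw [fibC_fst, mapC, pullback.lift_fst]
  exact IsPullback.of_hasPullback V.hom (fibP f g (c ≫ t))

variable {Z}

theorem IsTriv.comp {T' T : Scheme.{u}} {t : T ⟶ C} {V : FEt.Cat X}
    {m : pullback V.hom (fibP f g t) ⟶ Z.left} (h : IsTriv f g Z t V m) (c : T' ⟶ T) :
    IsTriv f g Z (c ≫ t) V (mapC f g c t V ≫ m) := by
  have := (isPullback_mapC f g c t V).paste_horiz h
  rwa [fibC_fibJ] at this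

/-- From an identification to an isomorphism of covers of the fibre. -/
noncomputable def IsTriv.iso {T : Scheme.{u}} {t : T ⟶ C} {V : FEt.Cat X}
    {m : pullback V.hom (fibP f g t) ⟶ Z.left} (h : IsTriv f g Z t V m) :
    (FEt.restrict (fibP f g t)).obj V ≅ (FEt.restrict (fibJ f g t)).obj Z :=
  MorphismProperty.Over.isoMk (IsPullback.isoPullback h) (IsPullback.isoPullback_hom_snd h)

variable (Z)

/-- From an isomorphism of covers of the fibre to an identification. -/
theorem isTriv_of_iso {T : Scheme.{u}} (t : T ⟶ C) (V : FEt.Cat X)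
    (φ : (FEt.restrict (fibP f g t)).obj V ≅ (FEt.restrict (fibJ f g t)).obj Z) :
    IsTriv f g Z t V (φ.hom.left ≫ pullback.fst Z.hom (fibJ f g t)) := by
  have : IsIso φ.hom.left :=
    inferInstanceAs (IsIso ((MorphismProperty.Over.forget FEt.prop ⊤ _ ⋙ Over.forget _).map φ.hom))
  have hw : φ.hom.left ≫ pullback.snd Z.hom (fibJ f g t) = pullback.snd V.hom (fibP f g t) :=
    MorphismProperty.Over.w φ.hom
  have h1 : IsPullback φ.hom.left (pullback.snd V.hom (fibP f g t)) (pullback.snd Z.hom (fibJ f g t))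
      (𝟙 (fib f g t)) := IsPullback.of_horiz_isIso ⟨by rw [hw, Category.comp_id]⟩
  have := h1.paste_horiz (IsPullback.of_hasPullback Z.hom (fibJ f g t))
  rwa [Category.id_comp] at this

/-- `V` classifies the fibre of `Z` at `t`. -/
def Cls {T : Scheme.{u}} (t : T ⟶ C) (V : FEt.Cat X) : Prop :=
  Nonempty ((FEt.restrict (fibP f g t)).obj V ≅ (FEt.restrict (fibJ f g t)).obj Z)

variable {Z}

theorem Cls.exists_isTriv {T : Scheme.{u}} {t : T ⟶ C} {V : FEt.Cat X} (h : Cls f g Z t V) :
    ∃ m, IsTriv f g Z t V m :=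
  ⟨_, isTriv_of_iso f g Z t V h.some⟩

theorem Cls.comp {T' T : Scheme.{u}} {t : T ⟶ C} {V : FEt.Cat X} (h : Cls f g Z t V) (c : T' ⟶ T) :
    Cls f g Z (c ≫ t) V :=
  let ⟨_, hm⟩ := h.exists_isTriv; ⟨(hm.comp f g c).iso f g⟩

theorem Cls.of_eq {T : Scheme.{u}} {t t' : T ⟶ C} (e : t = t') {V : FEt.Cat X} (h : Cls f g Z t V) :
    Cls f g Z t' V := e ▸ h

/-- Extension of an identification along a change of parameter with fully faithful restriction. -/
theorem Cls.of_comp {T' T : Scheme.{u}} (c : T' ⟶ T) {t : T ⟶ C} {V : FEt.Cat X}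
    (hF : (FEt.restrict (pullback.fst (pullback.snd f (t ≫ g)) c)).Full ∧
      (FEt.restrict (pullback.fst (pullback.snd f (t ≫ g)) c)).Faithful)
    (h : Cls f g Z (c ≫ t) V) : Cls f g Z t V := by
  let j := pullback.fst (pullback.snd f (t ≫ g)) c
  let l : pullback (pullback.snd f (t ≫ g)) c ⟶ fib f g (c ≫ t) :=
    pullback.lift (j ≫ fibP f g t) (pullback.snd _ _) (by
      rw [Category.assoc, pullback.condition, ← Category.assoc, pullback.condition]; simp)
  have h₁ : l ≫ fibP f g (c ≫ t) = j ≫ fibP f g t := pullback.lift_fst _ _ _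
  have h₂ : l ≫ fibJ f g (c ≫ t) = j ≫ fibJ f g t := by
    apply pullback.hom_ext
    · simp only [Category.assoc, fibJ_fst]; exact h₁
    · simp only [Category.assoc, fibJ_snd]
      rw [pullback.lift_snd_assoc]
      exact (pullback.condition_assoc (f := pullback.snd f (t ≫ g)) (g := c) t).symm
  obtain ⟨e0⟩ := h
  let a : (FEt.restrict j).obj ((FEt.restrict (fibP f g t)).obj V) ≅
      (FEt.restrict j).obj ((FEt.restrict (fibJ f g t)).obj Z) :=
    (Pi1FEt.restrictCompIso j (fibP f g t)).symm.app V ≪≫ (Pi1FEt.restrictCongr h₁.symm).app V ≪≫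
    (Pi1FEt.restrictCompIso l (fibP f g (c ≫ t))).app V ≪≫ (FEt.restrict l).mapIso e0 ≪≫
    (Pi1FEt.restrictCompIso l (fibJ f g (c ≫ t))).symm.app Z ≪≫
    (Pi1FEt.restrictCongr h₂).app Z ≪≫ (Pi1FEt.restrictCompIso j (fibJ f g t)).app Z
  haveI := hF.1
  haveI := hF.2
  exact ⟨(FEt.restrict j).preimageIso a⟩

theorem Cls.of_iso {T : Scheme.{u}} {t : T ⟶ C} {V V' : FEt.Cat X} (h : Cls f g Z t V) (e : V' ≅ V) :
    Cls f g Z t V' :=
  ⟨(FEt.restrict (fibP f g t)).mapIso e ≪≫ h.some⟩

section Field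

variable [IsSepClosed k] [IsProper f]

/-- At a geometric point the constant factor and the fibre have the same covers. -/
theorem isEquivalence_fibP {Ω : Type u} [Field Ω] [IsSepClosed Ω]
    (t : Spec (CommRingCat.of Ω) ⟶ C) : (FEt.restrict (fibP f g t)).IsEquivalence := by
  letI : Algebra k Ω := (Spec.preimage (t ≫ g)).hom.toAlgebra
  have e : t ≫ g = Spec.map (CommRingCat.ofHom (algebraMap k Ω)) :=
    (Spec.map_preimage (t ≫ g)).symm
  change (FEt.restrict (pullback.fst f (t ≫ g))).IsEquivalence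
  rw [e]
  exact isEquivalence_field f

theorem exists_cls {Ω : Type u} [Field Ω] [IsSepClosed Ω] (t : Spec (CommRingCat.of Ω) ⟶ C)
    (Z : FEt.Cat (pullback f g)) : ∃ V, Cls f g Z t V :=
  haveI := isEquivalence_fibP f g t
  ⟨_, ⟨(FEt.restrict (fibP f g t)).objObjPreimageIso _⟩⟩

theorem Cls.unique {Ω : Type u} [Field Ω] [IsSepClosed Ω] {t : Spec (CommRingCat.of Ω) ⟶ C}
    {V V' : FEt.Cat X} (h : Cls f g Z t V) (h' : Cls f g Z t V') : Nonempty (V ≅ V') :=
  haveI := isEquivalence_fibP f g t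
  ⟨(FEt.restrict (fibP f g t)).preimageIso (h.some ≪≫ h'.some.symm)⟩

theorem cls_comp_iff {Ω Ω' : Type u} [Field Ω] [IsSepClosed Ω] [Field Ω'] [IsSepClosed Ω']
    (c : Spec (CommRingCat.of Ω') ⟶ Spec (CommRingCat.of Ω)) (t : Spec (CommRingCat.of Ω) ⟶ C)
    (V : FEt.Cat X) : Cls f g Z (c ≫ t) V ↔ Cls f g Z t V := by
  refine ⟨fun h => ?_, fun h => h.comp f g c⟩
  obtain ⟨V', h'⟩ := exists_cls f g t Z
  obtain ⟨e⟩ := h.unique f g (h'.comp f g c)
  exact h'.of_iso f g e

omit [IsSepClosed k] in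
/-- Over a henselian local ring classification extends from the closed point. -/
theorem Cls.of_closedPoint {O : Type u} [CommRing O] [HenselianLocalRing O]
    {t : Spec (CommRingCat.of O) ⟶ C} {V : FEt.Cat X}
    (h : Cls f g Z (Spec.map (CommRingCat.ofHom (residue O)) ≫ t) V) : Cls f g Z t V := by
  haveI : IsProper (pullback.snd f (t ≫ g)) := MorphismProperty.pullback_snd _ _ inferInstance
  exact h.of_comp f g (Spec.map (CommRingCat.ofHom (residue O)))
    (fullyFaithful_henselian (maximalIdeal O) (pullback.snd f (t ≫ g)))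

end Field

/-- Two geometric points with the same image are dominated by a third one. -/
theorem exists_common {Ω Ω' : Type u} [Field Ω] [Field Ω'] (t : Spec (CommRingCat.of Ω) ⟶ C)
    (t' : Spec (CommRingCat.of Ω') ⟶ C) (h : t default = t' default) :
    ∃ (Ω'' : Type u) (_ : Field Ω'') (_ : IsAlgClosed Ω'')
      (c : Spec (CommRingCat.of Ω'') ⟶ Spec (CommRingCat.of Ω))
      (c' : Spec (CommRingCat.of Ω'') ⟶ Spec (CommRingCat.of Ω')), c ≫ t = c' ≫ t' := by
  obtain ⟨z, -, -⟩ := Scheme.Pullback.exists_preimage_pullback (f := t) (g := t') default default h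
  obtain ⟨L, _, _, ξ, -⟩ := Pi1FEt.exists_geomPoint z
  exact ⟨L, inferInstance, inferInstance, ξ ≫ pullback.fst t t', ξ ≫ pullback.snd t t', by
    simp [pullback.condition]⟩

/-- Families of covers of a proper scheme are constant on connected parameter schemes. -/
theorem cls_const [IsSepClosed k] [IsProper f] [IsLocallyNoetherian C] [PreconnectedSpace C]
    {Ω Ω' : Type u} [Field Ω] [IsAlgClosed Ω] [Field Ω'] [IsAlgClosed Ω']
    (t : Spec (CommRingCat.of Ω) ⟶ C) (t' : Spec (CommRingCat.of Ω') ⟶ C)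
    {V : FEt.Cat X} (h : Cls f g Z t V) : Cls f g Z t' V := by
  let S : Set ↥C := {x | ∃ (L : Type u) (_ : Field L) (_ : IsAlgClosed L)
    (ξ : Spec (CommRingCat.of L) ⟶ C), ξ default = x ∧ Cls f g Z ξ V}
  have hall : ∀ {L : Type u} [Field L] [IsAlgClosed L] (ξ : Spec (CommRingCat.of L) ⟶ C),
      ξ default ∈ S ↔ Cls f g Z ξ V := by
    intro L _ _ ξ
    refine ⟨fun ⟨L', _, _, ξ', hx, hξ'⟩ => ?_, fun hξ => ⟨L, inferInstance, inferInstance, ξ, rfl, hξ⟩⟩
    obtain ⟨L'', _, _, c, c', hc⟩ := exists_common ξ ξ' hx.symm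
    exact (cls_comp_iff f g c ξ V).1 ((hξ'.comp f g c').of_eq f g hc.symm)
  have hS : IsClopen S := isClopen_of_stable fun x s hxs => by
    obtain ⟨O, _, _, _, _, K, _, _, ι, τ, hx, hs⟩ := exists_specData hxs
    have e : ∀ V', Cls f g Z (Spec.map (CommRingCat.ofHom (residue O)) ≫ τ) V' →
        Cls f g Z (Spec.map (CommRingCat.ofHom ι) ≫ τ) V' :=
      fun V' hV' => (hV'.of_closedPoint f g).comp f g _
    rw [← hx, ← hs, hall, hall]
    refine ⟨fun h₁ => ?_, e V⟩
    obtain ⟨V', hV'⟩ := exists_cls f g (Spec.map (CommRingCat.ofHom (residue O)) ≫ τ) Z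
    obtain ⟨u⟩ := h₁.unique f g (e V' hV')
    exact hV'.of_iso f g u
  have := hS.eq_univ ⟨_, (hall t).2 h⟩
  exact (hall t').1 (this ▸ Set.mem_univ _)

end Groth.Pi1PBC
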